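import Cfsg.Agent.Lib.Char.SemiBlock.Pairs
import Cfsg.Agent.Lib.Char.QuatBlock.Rows

/-!
# The column of an exotic pair

The local block of an exotic pair carries the function which lives on the involution alone. Its coefficients have
norm four, are orthogonal to the vectors of the axis and to the regular classes, and are even at large height.
-/

set_option autoImplicit false
set_option linter.unusedSectionVars false
set_option linter.style.haveILetI false

namespace Cfsg.Agent.Char.SemiBlock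

open Cfsg
open QuatBlock (QB)
open scoped ComplexConjugate

universe u v

variable {G : Type u} [Group G] [Fintype G] {M : Ideal AlgInt} {B : Set (IrrCharacter G)}
  {A : Type v} [Group A] [Fintype A] {e : ℕ} {u : G} [Fintype (QuatBlock.axis u)]

open scoped Classical in
/-- A function carried from a subgroup of the centralizer of an involution against a function of the axis. -/
theorem inner_axis_eq_zero (Q : QB M B A e u) {t : G} (ht : orderOf t = 2) [Fintype (Subgroup.centralizer ({t} : Set G))]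
    {P : Type u} [Group P] [Fintype P] (S : LocalNil 2 M B (Subgroup.centralizer ({t} : Set G)) P)
    {μ : P → ℂ} (hμ : IsClassFunction P μ) (hμo : S.Supp (· = t) μ) {b c : ℕ} (h : Even (b + c)) :
    ∑ χ ∈ bset B, Q.S.v (Q.dif b c) χ * conj (S.v μ χ) = 0 := by
  have hν := Q.dif_isClass b c
  have hνo := Q.supp_dif h
  have hpoint : ∀ g, Q.S.L (Q.dif b c) g * conj (S.L μ g) = 0 := by
    intro g
    by_contra hne
    rw [mul_eq_zero, not_or, map_eq_zero] at hne
    obtain ⟨s, hs⟩ : ∃ s : G, QuatBlock.Gd u (ppt 2 (s⁻¹ * g * s)) := by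
      by_contra hn
      push Not at hn
      exact hne.1 (Q.S.L_eq_zero hν hνo hn)
    obtain ⟨r, hr⟩ : ∃ r : G, ppt 2 (r⁻¹ * g * r) = t := by
      by_contra hn
      push Not at hn
      exact hne.2 (S.L_eq_zero (Gd := (· = t)) hμ hμo hn)
    have e1 : s⁻¹ * g * s = (s⁻¹ * r) * (r⁻¹ * g * r) * (s⁻¹ * r)⁻¹ := by group
    rw [e1, ppt_conj Nat.prime_two, hr] at hs
    obtain ⟨k, hk⟩ := hs
    have ho : orderOf (((s⁻¹ * r) * t * (s⁻¹ * r)⁻¹) ^ 2 ^ k) ∣ 2 := by
      refine (orderOf_dvd_iff_pow_eq_one).mpr ?_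
      rw [← pow_mul, mul_comm, pow_mul, conj_pow, show t ^ 2 = 1 by rw [← ht]; exact pow_orderOf_eq_one t]
      simp
    have hu := Q.orderOf_u
    rcases hk with h' | h' <;> rw [h'] at ho
    · rw [hu] at ho; norm_num at ho
    · rw [orderOf_inv, hu] at ho; norm_num at ho
  have h1 : classInner (Q.S.L (Q.dif b c)) (S.L μ) = 0 := by
    rw [classInner, Finset.sum_eq_zero fun g _ => hpoint g, mul_zero]
  rw [← h1]
  conv_rhs => rw [classFun_expansion (show IsClassFunction G (Q.S.L (Q.dif b c)) from isClassFunction_indFun _ _),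
    classInner_sum_left]
  rw [Finset.sum_subset (Finset.subset_univ (bset B))]
  · refine Finset.sum_congr rfl fun χ _ => ?_
    rw [classInner_smul_left, ← classInner_symm (S.L μ), S.v_eq, Q.S.v_eq]
  · intro χ _ hχ
    rw [Q.S.v_other Q.fused hν hνo fun h => hχ (mem_bset.mpr h), zero_mul]

open scoped Classical in
/-- The regular character. -/
theorem isCharacter_delta {P : Type u} [Group P] [Fintype P] :
    IsCharacter P (fun x => if x = 1 then (Nat.card P : ℂ) else 0) := by
  have e1 : (fun x : P => if x = 1 then (Nat.card P : ℂ) else 0) = indFun (⊥ : Subgroup P) (fun _ => 1) :=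
    funext fun x => by
      rw [indFun, Subgroup.card_bot, Nat.cast_one, inv_one, one_mul,
        Finset.sum_congr rfl (g := fun _ => if x = 1 then (1 : ℂ) else 0) fun w _ => by
          by_cases hx : x = 1
          · rw [if_pos hx]
            exact extendByZero_mem _ _ (by rw [hx, mul_one, inv_mul_cancel]; exact one_mem _)
          · rw [if_neg hx]
            refine extendByZero_not_mem _ _ fun h => hx ?_
            rw [Subgroup.mem_bot] at h
            calc x = w * (w⁻¹ * x * w) * w⁻¹ := by group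
              _ = 1 := by rw [h]; group,
        Finset.sum_const, Finset.card_univ, nsmul_eq_mul, Nat.card_eq_fintype_card]
      split_ifs <;> simp
  rw [e1]
  exact isCharacter_indFun _ isCharacter_one

open scoped Classical in
/-- The degree of the local part of a block of defect two is even at the largest height. -/
theorem even_deg_part {H : Subgroup G} [Fintype H] {P : Type u} [Group P] [Fintype P] (T : LocalNil 2 M B H P)
    {e : ℕ} (hdefB : blockDefect 2 B = e + 3) (hP4 : Nat.card P = 4) {χ : IrrCharacter G} (hχ : χ ∈ B)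
    (hh : blockHeight 2 B (χ : G → ℂ) = e + 1) {n : ℕ}
    (hn : T.v (fun x => if x = 1 then (Nat.card P : ℂ) else 0) χ = n) : Even n := by
  have hM := T.hM
  have hP' := pmod_prime hM
  set F := indFun H (blockCoeff T.f) with hF
  have hFI := intClassFun_indFun hP' (isIntClassFun_blockCoeff hM T.hf)
  obtain ⟨cψ, hcψ, hdψ⟩ := deg_eq_pow_mul Nat.prime_two T.ψ.2
  set cI := H.index / 2 ^ H.index.factorization 2 with hcI
  have hcI2 : ¬ 2 ∣ cI := Nat.not_dvd_ordCompl Nat.prime_two Subgroup.index_ne_zero_of_finite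
  have hexp2 : dmin 2 T.f + H.index.factorization 2 = dmin 2 B + (e + 1) := by
    have h1 := dmin_add_defect (p := 2) (block_nonempty hP' T.hf)
    have h2 := dmin_add_defect (p := 2) (block_nonempty hP' T.hB)
    have h3 : (Nat.card G).factorization 2 = (Nat.card H).factorization 2 + H.index.factorization 2 := by
      rw [← H.card_mul_index, Nat.factorization_mul Nat.card_pos.ne' Subgroup.index_ne_zero_of_finite]
      rfl
    have h4 : blockDefect 2 T.f = 2 := Nat.pow_right_injective le_rfl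
      (show 2 ^ blockDefect 2 T.f = 2 ^ 2 by rw [T.pow_defect, hP4])
    rw [hdefB] at h2
    omega
  have h5 : (2 : ℂ) ^ dmin 2 T.f * (2 : ℂ) ^ H.index.factorization 2 = (2 : ℂ) ^ dmin 2 B * (2 : ℂ) ^ (e + 1) := by
    rw [← pow_add, hexp2, pow_add]
  have hrel : ∀ χ ∈ B, ∃ c2 : ℕ, ¬ 2 ∣ c2 ∧ ∀ m : ℂ, T.v (fun x => if x = 1 then (Nat.card P : ℂ) else 0) χ = m →
      (2 : ℂ) ^ (e + 1) * (m * ((cψ * cI : ℕ) : ℂ)) =
        (2 : ℂ) ^ blockHeight 2 B (χ : G → ℂ) * (lam (χ : G → ℂ) F * c2) := by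
    intro χ hχ
    obtain ⟨cχ, hcχ, hdχ⟩ := deg_eq_pow_mul Nat.prime_two χ.2
    refine ⟨cχ, hcχ, fun m hm => ?_⟩
    have h := T.v_delta χ
    rw [hm, char_one_eq_deg (irr_isCharacter χ.2), char_one_eq_deg (irr_isCharacter T.ψ.2), hdψ, hdχ,
      dexp_eq_height_add hχ, (blockHeight_eq_zero_iff T.hψ).mp T.hψ0, ← hF,
      show (H.index : ℂ) = (2 : ℂ) ^ H.index.factorization 2 * (cI : ℂ) by
        rw [hcI, show ((2 : ℂ)) = ((2 : ℕ) : ℂ) by norm_num, ← Nat.cast_pow, ← Nat.cast_mul,
          Nat.ordProj_mul_ordCompl_eq_self]] at h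
    push_cast at h ⊢
    refine mul_left_cancel₀ (pow_ne_zero (dmin 2 B) (two_ne_zero (α := ℂ))) ?_
    rw [pow_add (2 : ℂ) (dmin 2 B)] at h
    linear_combination h - (m * (cψ : ℂ) * (cI : ℂ)) * h5
  obtain ⟨χ0, hχ0, h00⟩ := exists_height_zero (p := 2) (block_nonempty hP' T.hB)
  have hδ : IsCharacter P (fun x => if x = 1 then (Nat.card P : ℂ) else 0) := isCharacter_delta
  obtain ⟨n0, hn0⟩ := T.v_nat hδ χ0
  obtain ⟨c0, hc0, he0⟩ := hrel χ0 hχ0
  obtain ⟨c2, -, hec⟩ := hrel χ hχ
  have he0 := he0 _ hn0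
  have hec := hec _ hn
  rw [h00, pow_zero, one_mul] at he0
  have h2I : MemLocalIdeal M (2 : ℂ) := by exact_mod_cast memLI_p hM
  have hR : ∀ χ : IrrCharacter G, MemLocalRing M (lam (χ : G → ℂ) F) := fun χ => memLR_lam hP' χ.2 hFI.1 hFI.2
  have hlam0 : MemLocalIdeal M (lam (χ0 : G → ℂ) F) := by
    have h7 : MemLocalIdeal M (lam (χ0 : G → ℂ) F * (c0 : ℂ)) := by
      rw [← he0, pow_succ', mul_assoc]
      exact memLI_mul_right hP' h2I (memLR_mul hP' (memLR_pow hP' (by exact_mod_cast memLR_natCast hP' 2) e)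
        (memLR_mul hP' (memLR_natCast hP' _) (memLR_natCast hP' _)))
    exact (memLI_mul_mem hP' (hR χ0) (memLR_natCast hP' _) h7).resolve_right
      fun h' => hc0 ((memLI_natCast_iff hM _).mp h')
  have hlam : MemLocalIdeal M (lam (χ : G → ℂ) F) :=
    memLI_congr hP' (lam_congr hP' χ.2 χ0.2 (block_sameBlock hP' T.hB hχ hχ0) hFI.1 hFI.2) hlam0
  rw [hh] at hec
  have he2 := mul_left_cancel₀ (pow_ne_zero _ (two_ne_zero (α := ℂ))) hec
  have h8 : MemLocalIdeal M (((n * (cψ * cI) : ℕ)) : ℂ) := by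
    push_cast at he2 ⊢
    rw [he2]
    exact memLI_mul_right hP' hlam (memLR_natCast hP' _)
  exact even_iff_two_dvd.mpr ((Nat.prime_two.dvd_mul.mp ((memLI_natCast_iff hM _).mp h8)).resolve_right
    (Nat.prime_two.not_dvd_mul hcψ hcI2))

open scoped Classical in
set_option maxHeartbeats 1000000 in
/-- The column. -/
theorem exists_column {D : Subgroup G} {ed : Set (IrrCharacter (Subgroup.centralizer (D : Set G)))} {z y : G}
    (S : Setting M B D ed z y) (Q : QB M B A e u) {t : G}
    {β : Set (IrrCharacter (Subgroup.centralizer ({t} : Set G)))} (h : Exotic M B D ed z t β) :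
    ∃ d : IrrCharacter G → ℤ, (∑ χ ∈ bset B, d χ * d χ = 4) ∧
      (∀ g : G, ¬ 2 ∣ orderOf g → ∑ χ ∈ bset B, (d χ : ℂ) * (χ : G → ℂ) g = 0) ∧
      Q.Perp d ∧ ∀ χ ∈ B, blockHeight 2 B (χ : G → ℂ) = e + 1 → Even (d χ) := by
  haveI : Fintype (Subgroup.centralizer ({t} : Set G)) := Fintype.ofFinite _
  have hM := S.hM
  have hP' := pmod_prime hM
  obtain ⟨P, hPd, hP4, hexp, htP, hnil, -⟩ := S.exotic_defect h
  obtain ⟨ht, hind, -⟩ := h
  obtain ⟨e', he'⟩ := exists_pair_of_le_defect hM hind.1 hPd le_rfl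
  obtain ⟨ψ, hψ, hψ0⟩ := exists_height_zero (p := 2) (block_nonempty hP' hind.1)
  let T : LocalNil 2 M B (Subgroup.centralizer ({t} : Set G)) P :=
    ⟨hM, S.hB, β, hind, P, hPd, e', maximal_of_defect hM hPd he', hnil, ψ, hψ, hψ0, MulEquiv.refl _⟩
  have hTd : ∀ w : P, T.d w = (w : Subgroup.centralizer ({t} : Set G)) := fun _ => rfl
  set tH : Subgroup.centralizer ({t} : Set G) := ⟨t, Subgroup.mem_centralizer_singleton_iff.mpr rfl⟩
  set y0 : P := ⟨tH, htP⟩ with hy0d
  have hinvP : ∀ x : P, x * x = 1 := fun x => Subtype.ext (hexp _ x.2)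
  have hcomm : ∀ x w : P, x * w = w * x := fun x w => by
    have hi : ∀ v : P, v⁻¹ = v := fun v => inv_eq_of_mul_eq_one_right (hinvP v)
    calc x * w = (x * w)⁻¹ := (hi _).symm
      _ = w⁻¹ * x⁻¹ := mul_inv_rev x w
      _ = w * x := by rw [hi, hi]
  have hy1 : y0 ≠ 1 := fun h1 => by
    have h2 : t = 1 := congrArg (fun w : P => ((w : Subgroup.centralizer ({t} : Set G)) : G)) h1
    rw [h2, orderOf_one] at ht; omega
  have hz : ∀ x : P, x ∈ Subgroup.zpowers y0 ↔ x = 1 ∨ x = y0 := by
    intro x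
    constructor
    · intro hx
      obtain ⟨k, rfl⟩ := (mem_powers_iff_mem_zpowers).mpr hx
      show y0 ^ k = 1 ∨ y0 ^ k = y0
      induction k with
      | zero => exact Or.inl (pow_zero _)
      | succ k ih =>
        rw [pow_succ]
        rcases ih (Subgroup.pow_mem _ (Subgroup.mem_zpowers _) _) with h1 | h1 <;> rw [h1]
        · exact Or.inr (one_mul _)
        · exact Or.inl (hinvP _)
    · rintro (rfl | rfl)
      · exact one_mem _
      · exact Subgroup.mem_zpowers _
  -- two induced characters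
  set ρ : P → ℂ := indFun (Subgroup.zpowers y0) (fun _ => 1) with hρd
  set δ : P → ℂ := fun x => if x = 1 then (Nat.card P : ℂ) else 0 with hδd
  have hind0 : ∀ (K : Subgroup P) (x : P), indFun K (fun _ : K => (1 : ℂ)) x =
      if x ∈ K then (K.index : ℂ) else 0 := by
    intro K x
    rw [indFun, Finset.sum_congr rfl (g := fun _ => if x ∈ K then (1 : ℂ) else 0) fun w _ => by
      rw [show w⁻¹ * x * w = x by rw [hcomm w⁻¹ x, inv_mul_cancel_right]]
      split_ifs with hx
      · exact extendByZero_mem K _ hx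
      · exact extendByZero_not_mem K _ hx, Finset.sum_const, Finset.card_univ, nsmul_eq_mul,
      ← Nat.card_eq_fintype_card, ← K.index_mul_card]
    have : (Nat.card K : ℂ) ≠ 0 := Nat.cast_ne_zero.mpr Nat.card_pos.ne'
    split_ifs
    · push_cast; field_simp
    · simp
  have hρ : IsCharacter P ρ := isCharacter_indFun _ isCharacter_one
  have hδ : IsCharacter P δ := by
    convert isCharacter_delta (P := P) using 1
    funext x
    simp only [hδd]
    congr
  have hzi : (Subgroup.zpowers y0).index = 2 := by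
    have h1 := (Subgroup.zpowers y0).index_mul_card
    rw [Nat.card_zpowers, orderOf_eq_prime (by rw [sq, hinvP]) hy1, hP4] at h1
    omega
  set μ : P → ℂ := ρ - (δ - ρ) with hμd
  have hμv : ∀ x, μ x = if x = y0 then 4 else 0 := by
    intro x
    simp only [hμd, Pi.sub_apply, hρd, hδd, hind0, hz, hzi, hP4]
    rcases eq_or_ne x 1 with rfl | h1
    · rw [if_pos (Or.inl rfl), if_pos rfl, if_neg hy1.symm]; norm_num
    · rcases eq_or_ne x y0 with rfl | h2
      · rw [if_pos (Or.inr rfl), if_neg h1, if_pos rfl]; norm_num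
      · rw [if_neg (by tauto), if_neg h1, if_neg h2]; norm_num
  have hμc : IsClassFunction P μ := fun x w => by
    congr 1
    rw [hcomm w x, mul_inv_cancel_right]
  have hμo : T.Supp (· = t) μ := by
    intro c w x hx hne
    rw [hμv] at hne
    have hxy : x = y0 := by
      by_contra h'
      exact hne (if_neg h')
    rw [hxy, hTd] at hx
    have h1 := congrArg Subtype.val hx
    simp only [Subgroup.coe_mul, Subgroup.coe_inv, ← ppt_coe Nat.prime_two, hy0d, tH] at h1
    have hw : (w : G) * t = t * (w : G) := Subgroup.mem_centralizer_singleton_iff.mp w.2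
    calc ppt 2 (c : G) = (w : G)⁻¹ * ((w : G) * ppt 2 (c : G) * (w : G)⁻¹) * (w : G) := by group
      _ = t := by rw [h1, mul_assoc, ← hw, inv_mul_cancel_left]
  have hfus : ∀ x s : G, x = t → s * x * s⁻¹ = t → s ∈ Subgroup.centralizer ({t} : Set G) := by
    rintro x s rfl h2
    exact Subgroup.mem_centralizer_singleton_iff.mpr (mul_inv_eq_iff_eq_mul.mp h2)
  choose nρ hnρ using fun χ => T.v_nat hρ χ
  choose nδ hnδ using fun χ => T.v_nat hδ χ
  let d : IrrCharacter G → ℤ := fun χ => 2 * (nρ χ : ℤ) - nδ χ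
  have hdv : ∀ χ, T.v μ χ = (d χ : ℂ) := fun χ => by
    rw [hμd, LocalNil.v_sub, LocalNil.v_sub, hnρ, hnδ]
    simp only [d]
    push_cast
    ring
  refine ⟨d, ?_, ?_, ?_, ?_⟩
  · apply Int.cast_injective (α := ℂ)
    have h4 := T.parseval hfus hμc hμo hμc hμo
    rw [show classInner μ μ = 4 by
      rw [classInner, Finset.sum_eq_single y0 (fun x _ hx => by simp [hμv, hx]) (fun h' => absurd (Finset.mem_univ _) h'),
        hμv, if_pos rfl, hP4]
      rw [show ((4 : ℂ)) = ((4 : ℕ) : ℂ) by norm_num, map_natCast]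
      norm_num] at h4
    push_cast
    rw [← h4]
    exact Finset.sum_congr rfl fun χ _ => by rw [hdv, map_intCast]
  · intro g hg
    rw [Finset.sum_congr rfl fun χ _ => by rw [← hdv χ], T.sum_v_value hfus hμc hμo g]
    refine T.L_eq_zero (Gd := (· = t)) hμc hμo fun s hs => ?_
    have hreg : ¬ 2 ∣ orderOf (s⁻¹ * g * s) := by
      rwa [show s⁻¹ * g * s = MulAut.conj s⁻¹ g by simp, MulEquiv.orderOf_eq]
    have hs1 : ppt 2 (s⁻¹ * g * s) = t := hs
    rw [(ppt_eq_one_iff Nat.prime_two _).mpr hreg] at hs1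
    rw [← hs1, orderOf_one] at ht
    omega
  · have key : ∀ {b c : ℕ}, Even (b + c) → ∑ χ ∈ bset B, (Q.cn b χ - Q.cn c χ) * d χ = 0 := fun {b c} hbc => by
      apply Int.cast_injective (α := ℂ)
      rw [Int.cast_zero, ← inner_axis_eq_zero Q ht T hμc hμo hbc, Int.cast_sum]
      refine Finset.sum_congr rfl fun χ _ => ?_
      rw [Int.cast_mul, Q.v_dif, hdv, map_intCast]
    exact ⟨key (QuatBlock.QB.even_wv e), fun i => key (QuatBlock.QB.even_uv _), fun i => key (QuatBlock.QB.even_ov _)⟩
  · intro χ hχ hh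
    obtain ⟨k, hk⟩ := even_deg_part T Q.defect hP4 hχ hh (n := nδ χ) (by rw [← hnδ χ]; congr 1; funext x; simp only [hδd]; congr)
    refine ⟨(nρ χ : ℤ) - k, ?_⟩
    simp only [d, hk]
    push_cast
    ring

end Cfsg.Agent.Char.SemiBlock
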