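import Cfsg.Agent.Lib.Char.SemiBlock.Pairs
import Cfsg.Agent.Lib.Fusion.QuasiDihedralSub
import Cfsg.Agent.Lib.Char.QuatBlock.Transfer

/-!
# Characters minus rank of a block with semidihedral defect group

It is the value at the centralizer of the central involution, less one when the other involutions are fused to it.
-/

set_option autoImplicit false
set_option linter.unusedSectionVars false
set_option linter.style.haveILetI false

namespace Cfsg.Agent.Char.SemiBlock

open Cfsg Relation
open QuatBlock (invPart invPart_conj orderOf_invPart centralizer_le_invPart)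
open scoped Classical

universe u

variable {G : Type u} [Group G] [Fintype G] {M : Ideal AlgInt} {B : Set (IrrCharacter G)} {D : Subgroup G}

theorem exists_setting (hM : IsPModular 2 M) (hB : IsPBlock M B) (hD : IsDefectGroup 2 M B D)
    (hQ : IsQuasiDihedral D) :
    ∃ ed z y, Setting M B D ed z y ∧ ∀ w ∈ D, orderOf w = 2 → (∀ d ∈ D, d * w = w * d) → w = z := by
  obtain ⟨n, ⟨Q⟩⟩ := Fusion.exists_qdData' hQ
  obtain ⟨ed, hed⟩ := exists_pair_of_le_defect hM hB hD le_rfl
  have hzz : ∀ s : D, Commute (Q.x ^ (0 : ℤ) * Q.y) s ↔ s * Q.y = Q.y * s := fun s => by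
    rw [zpow_zero, one_mul]; exact ⟨fun h => h.eq.symm, fun h => h.symm⟩
  refine ⟨ed, Q.z, Q.y, ⟨hM, hB, maximal_of_defect hM hD hed, Q.z.2, Q.y.2,
    by rw [Subgroup.orderOf_coe, Q.orderOf_z], by rw [Subgroup.orderOf_coe, Q.oy], ?_, ?_, ?_, ?_, ?_⟩, ?_⟩
  · intro h
    exact Q.y_not_mem ((Subtype.ext h : Q.y = Q.z) ▸ Subgroup.zpow_mem_zpowers _ _)
  · intro d hd
    exact congrArg Subtype.val (Q.z_central ⟨d, hd⟩).eq.symm
  · intro w hw h2
    rcases Q.invol_cases (s := ⟨w, hw⟩) (by rw [Subgroup.orderOf_mk, h2]) with h | ⟨i, hi, h⟩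
    · exact Or.inl (congrArg Subtype.val h)
    · obtain ⟨j, hj⟩ := Q.conj_same_parity (i := 0) (k := i) (by rwa [sub_zero])
      refine Or.inr ⟨_, (Q.x ^ j).2, ?_⟩
      have := congrArg Subtype.val (hj.trans h.symm)
      rwa [zpow_zero, one_mul] at this
  · rw [← Q.card_centralizer_refl 0, zpow_zero, one_mul]
    refine Nat.card_congr ⟨fun w => ⟨⟨w, w.2.1⟩, Subgroup.mem_centralizer_singleton_iff.mpr
      (Subtype.ext (Subgroup.mem_centralizer_singleton_iff.mp w.2.2))⟩, fun s => ⟨((s : D) : G), (s : D).2,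
      Subgroup.mem_centralizer_singleton_iff.mpr (congrArg Subtype.val (Subgroup.mem_centralizer_singleton_iff.mp s.2))⟩,
      fun w => rfl, fun s => rfl⟩
  · intro w hw hc
    have h1 : Commute (⟨w, hw⟩ : D) (Q.x ^ (0 : ℤ) * Q.y) := ((hzz _).mpr (Subtype.ext hc)).symm
    rcases (Q.commute_refl_iff 0 _).1 h1 with h | h | h | h
    · have := congrArg (fun s => ((s * s : D) : G)) h
      simpa using this
    · have := congrArg (fun s => ((s * s : D) : G)) h
      simpa [Q.z_mul_z] using this
    · have := congrArg (fun s => ((s * s : D) : G)) h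
      simpa [Q.yy] using this
    · have hh : (⟨w, hw⟩ : D) * ⟨w, hw⟩ = 1 := by
        rw [h, zpow_zero, one_mul]
        calc Q.z * Q.y * (Q.z * Q.y) = Q.z * (Q.y * Q.z) * Q.y := by group
          _ = Q.z * (Q.z * Q.y) * Q.y := by rw [(Q.z_central Q.y).eq]
          _ = Q.z * Q.z * (Q.y * Q.y) := by group
          _ = 1 := by rw [Q.z_mul_z, Q.yy, one_mul]
      exact congrArg Subtype.val hh
  · intro w hw h2 hc
    rcases Q.invol_cases (s := ⟨w, hw⟩) (by rw [Subgroup.orderOf_mk, h2]) with h | ⟨i, -, h⟩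
    · exact congrArg Subtype.val h
    · exfalso
      have hmem : (⟨w, hw⟩ : D) ∈ Subgroup.center D :=
        Subgroup.mem_center_iff.mpr fun s => Subtype.ext (hc _ s.2)
      rw [Q.center_eq] at hmem
      refine Q.not_mem_of_refl i (h ▸ ?_)
      exact (Subgroup.zpowers_le.mpr (Subgroup.zpow_mem_zpowers Q.x Q.h)) hmem

theorem weight_split (hM : IsPModular 2 M) (T : Finset (Set (IrrCharacter G))) (K : Subgroup G) :
    LocalRank.weight M 2 T K = ∑ β ∈ T, LocalRank.weight M 2 {β} K := by
  haveI := Fintype.ofFinite K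
  simp only [LocalRank.weight, ← Finset.mul_sum]
  congr 1
  simp only [Finset.sum_filter]
  rw [Finset.sum_comm]
  refine Finset.sum_congr rfl fun γ _ => ?_
  by_cases h : ∃ β ∈ T, IsInducedBlock M K γ β
  · obtain ⟨β, hβ, hi⟩ := h
    rw [if_pos ⟨β, hβ, hi⟩, Finset.sum_eq_single β (fun β' _ hne => if_neg fun ⟨b, hb, hb'⟩ => hne (by
      rw [← Finset.mem_singleton.mp hb]; exact induced_unique (pmod_prime hM) hb' hi)) (fun h' => absurd hβ h'),
      if_pos ⟨β, Finset.mem_singleton_self β, hi⟩]
  · rw [if_neg h, Finset.sum_eq_zero fun β hβ => if_neg fun ⟨b, hb, hb'⟩ =>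
      h ⟨β, hβ, (Finset.mem_singleton.mp hb) ▸ hb'⟩]

/-- The weight at a central element. -/
theorem weight_central (hM : IsPModular 2 M) (hB : IsPBlock M B) {t : G} (ht : ∀ g, t * g = g * t) :
    LocalRank.weight M 2 {B} (Subgroup.centralizer ({t} : Set G)) = Nat.card G * blockRank 2 B := by
  have e : Subgroup.centralizer ({t} : Set G) = Subgroup.centralizer ({(1 : G)} : Set G) := by
    ext g
    simp only [Subgroup.mem_centralizer_singleton_iff, mul_one, one_mul, iff_true]
    exact (ht g).symm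
  rw [e, LocalRank.weight, ← SubsectionOrbits.rank_at_one hM hB]
  congr 1
  · exact Nat.card_congr ((MulEquiv.subgroupCongr (show Subgroup.centralizer ({(1 : G)} : Set G) = ⊤ by
      ext g; simp [Subgroup.mem_centralizer_singleton_iff])).trans Subgroup.topEquiv).toEquiv
  · refine Eq.symm (finsum_mem_eq_sum_of_inter_support_eq _ ?_)
    ext γ
    simp

theorem weight_eq_zero (hM : IsPModular 2 M) (hB : IsPBlock M B) {P : Subgroup G}
    {e : Set (IrrCharacter (Subgroup.centralizer (P : Set G)))} (hmax : IsMaximalBrauerPair 2 M B P e) {w : G}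
    (hw : ∃ k : ℕ, orderOf w = 2 ^ k) (hno : ∀ g : G, g * w * g⁻¹ ∉ P) :
    LocalRank.weight M 2 {B} (Subgroup.centralizer ({w} : Set G)) = 0 := by
  unfold LocalRank.weight
  rw [Finset.sum_eq_zero, mul_zero]
  intro γ hγ
  exfalso
  obtain ⟨β, hβ, hi⟩ := (Finset.mem_filter.1 hγ).2
  rw [Finset.mem_singleton.1 hβ] at hi
  obtain ⟨γ', -, -, -, hi'⟩ := CentralPairs.exists_same (B := B) (p := 2) (Star.centralizer_zp w).symm γ hi.1
  obtain ⟨g, hg⟩ := pairs_conj_into_maximal hM hmax
    (SubsectionOrbits.pair_of_induced hM (isPGroup_zpowers Nat.prime_two hw) (hi' hi))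
  exact hno g (subpair_le hg ⟨w, Subgroup.mem_zpowers w, rfl⟩)

namespace Setting

variable {ed : Set (IrrCharacter (Subgroup.centralizer (D : Set G)))} {z y : G} (S : Setting M B D ed z y)
include S

/-- The weights of the elements whose involution is not fused to the central one. -/
theorem weight_away {w : G} (hw1 : w ≠ 1) (hw2 : ∃ k : ℕ, orderOf w = 2 ^ k) (hn : ¬ IsConj z (invPart w)) :
    LocalRank.weight M 2 {B} (Subgroup.centralizer ({w} : Set G)) =
      if IsConj y w then Nat.card (Subgroup.centralizer ({w} : Set G)) else 0 := by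
  split_ifs with hc
  · obtain ⟨a, ha⟩ := isConj_iff.mp hc.symm
    have hmem : ∀ v, v ∈ Subgroup.centralizer ({w} : Set G) ↔ a * v * a⁻¹ ∈ Subgroup.centralizer ({y} : Set G) := by
      intro v
      rw [Subgroup.mem_centralizer_singleton_iff, Subgroup.mem_centralizer_singleton_iff, ← ha]
      constructor <;> intro h
      · calc a * v * a⁻¹ * (a * w * a⁻¹) = a * (v * w) * a⁻¹ := by group
          _ = a * (w * v) * a⁻¹ := by rw [h]
          _ = _ := by group
      · calc v * w = a⁻¹ * (a * v * a⁻¹ * (a * w * a⁻¹)) * a := by group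
          _ = a⁻¹ * (a * w * a⁻¹ * (a * v * a⁻¹)) * a := by rw [h]
          _ = _ := by group
    rw [LocalRank.weight_conj _ a hmem]
    have hny : ¬ IsConj z y := by
      intro h
      have hy' : invPart y = y := by rw [invPart, S.hy2, Nat.div_self two_pos, pow_one]
      refine hn (h.trans (isConj_iff.mpr ⟨a⁻¹, ?_⟩))
      have hh : invPart w = a⁻¹ * invPart y * a⁻¹⁻¹ := by
        rw [← invPart_conj]; congr 1; rw [← ha]; group
      rw [hh, hy']
    have hcard : Nat.card (Subgroup.centralizer ({w} : Set G)) = Nat.card (Subgroup.centralizer ({y} : Set G)) :=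
      Nat.card_congr
        { toFun := fun v => ⟨a * v * a⁻¹, (hmem v).1 v.2⟩
          invFun := fun v => ⟨a⁻¹ * v * a, (hmem _).2 (by simp [mul_assoc])⟩
          left_inv := fun v => Subtype.ext (by simp [mul_assoc])
          right_inv := fun v => Subtype.ext (by simp [mul_assoc]) }
    rw [hcard]
    haveI := Fintype.ofFinite (Subgroup.centralizer ({y} : Set G))
    obtain ⟨fy, -, hfy⟩ := S.below_exists S.hy
    have hexo := S.exotic_of_not_conj hny hfy
    obtain ⟨_, -, -, -, -, -, hr⟩ := S.exotic_defect hexo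
    unfold LocalRank.weight
    rw [Finset.sum_eq_single fy, hr, mul_one]
    · intro γ hγ hne
      obtain ⟨β, hβ, hi⟩ := (Finset.mem_filter.1 hγ).2
      rw [Finset.mem_singleton.1 hβ] at hi
      exact absurd (S.exotic_unique (S.exotic_of_not_conj hny hi) hexo) hne
    · exact fun h => absurd (Finset.mem_filter.mpr ⟨Finset.mem_univ _, B, Finset.mem_singleton_self B, hfy⟩) h
  · refine weight_eq_zero S.hM S.hB S.hmax hw2 fun g hg => hc ?_
    have hord := orderOf_invPart hw1 hw2
    have htD : g * invPart w * g⁻¹ ∈ D := by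
      rw [← invPart_conj]
      exact Subgroup.pow_mem _ hg _
    rcases S.hinv _ htD (by rw [show g * invPart w * g⁻¹ = MulAut.conj g (invPart w) from rfl, MulEquiv.orderOf_eq,
      hord]) with h | ⟨d, hd, h⟩
    · exact absurd (isConj_iff.mpr ⟨g, h⟩).symm hn
    set v := d⁻¹ * (g * w * g⁻¹) * d with hv
    have hvD : v ∈ D := mul_mem (mul_mem (inv_mem hd) hg) hd
    have hiv : invPart v = y := by
      rw [hv, show d⁻¹ * (g * w * g⁻¹) * d = (d⁻¹ * g) * w * (d⁻¹ * g)⁻¹ by group, invPart_conj]
      calc d⁻¹ * g * invPart w * (d⁻¹ * g)⁻¹ = d⁻¹ * (g * invPart w * g⁻¹) * d := by group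
        _ = y := by rw [← h]; group
    have hvv : v * v = 1 := S.hexp v hvD (by rw [← hiv]; exact (Commute.self_pow v _).eq)
    have hv1 : v ≠ 1 := fun h1 => by
      have : y = 1 := by rw [← hiv, h1, invPart, one_pow]
      have h2 := S.hy2
      rw [this, orderOf_one] at h2
      omega
    have hvy : v = y := by
      rw [← hiv, invPart, orderOf_eq_prime (by rw [sq, hvv]) hv1, Nat.div_self two_pos, pow_one]
    refine (isConj_iff.mpr ⟨d⁻¹ * g, ?_⟩ : IsConj w y).symm
    rw [← hvy, hv]
    group

theorem exotic_rank_sum {β : Set (IrrCharacter (Subgroup.centralizer ({z} : Set G)))} (h : Exotic M B D ed z z β)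
    [Fintype (Subgroup.centralizer ({z} : Set G))] :
    ∑ w ∈ Finset.univ.filter (fun w : Subgroup.centralizer ({z} : Set G) =>
        (w ≠ 1 ∧ ∃ k : ℕ, orderOf w = 2 ^ k) ∧ invPart (w : G) = z),
      LocalRank.weight M 2 {β} (Subgroup.centralizer ({w} : Set (Subgroup.centralizer ({z} : Set G)))) =
        Nat.card (Subgroup.centralizer ({z} : Set G)) := by
  obtain ⟨P, hP, -, hexp, htP, -, hr⟩ := S.exotic_defect h
  obtain ⟨e', he'⟩ := exists_pair_of_le_defect S.hM h.2.1.1 hP le_rfl
  set tH : Subgroup.centralizer ({z} : Set G) := ⟨z, Subgroup.mem_centralizer_singleton_iff.mpr rfl⟩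
  have hmem : tH ∈ Finset.univ.filter fun w : Subgroup.centralizer ({z} : Set G) =>
      (w ≠ 1 ∧ ∃ k : ℕ, orderOf w = 2 ^ k) ∧ invPart (w : G) = z := by
    refine Finset.mem_filter.mpr ⟨Finset.mem_univ _, ⟨fun h1 => ?_, 1, ?_⟩, ?_⟩
    · have h2 := S.hz2
      rw [show z = 1 from congrArg Subtype.val h1, orderOf_one] at h2
      omega
    · rw [Subgroup.orderOf_mk, S.hz2, pow_one]
    · show invPart z = z
      rw [invPart, S.hz2, Nat.div_self two_pos, pow_one]
  rw [Finset.sum_eq_single_of_mem tH hmem]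
  · rw [weight_central S.hM h.2.1.1 fun g => Subtype.ext (cent_mul_comm g), hr, mul_one]
  · intro w hw hne
    obtain ⟨-, ⟨hw1, hw2⟩, hinv⟩ := Finset.mem_filter.mp hw
    refine weight_eq_zero S.hM h.2.1.1 (maximal_of_defect S.hM hP he') hw2 fun g hg => hne ?_
    have h1 := hexp _ hg
    have h2 : (g * w * g⁻¹) * (g * w * g⁻¹) = g * (w * w) * g⁻¹ := by group
    rw [h2, conj_eq_one_iff] at h1
    have h3 : orderOf w = 2 := orderOf_eq_prime (by rw [sq, h1]) hw1
    refine Subtype.ext ((?_ : (w : G) = invPart (w : G)).trans hinv)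
    rw [invPart, Subgroup.orderOf_coe, h3, Nat.div_self two_pos, pow_one]

end Setting

set_option maxHeartbeats 1000000 in
/-- The count. -/
theorem count {ed : Set (IrrCharacter (Subgroup.centralizer (D : Set G)))} {z y : G} (S : Setting M B D ed z y)
    (hD : IsDefectGroup 2 M B D) (hQ : IsQuasiDihedral D) :
    ∃ f : Set (IrrCharacter (Subgroup.centralizer ({z} : Set G))),
      IsInducedBlock M (Subgroup.centralizer ({z} : Set G)) f B ∧ blockDefect 2 f = blockDefect 2 B ∧
      ((Nat.card B : ℤ) - blockRank 2 B = (Nat.card f : ℤ) - blockRank 2 f - 1 ∨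
        ((Nat.card B : ℤ) - blockRank 2 B = (Nat.card f : ℤ) - blockRank 2 f ∧
          ∃ t β, Exotic M B D ed z t β)) := by
  have hM := S.hM
  have hB := S.hB
  obtain ⟨f0, hf0n, -, hind0, hdef0⟩ := CentralPairs.exists_below hM S.hmax S.hz S.hzc
  set H := Subgroup.centralizer ({z} : Set G) with hH
  obtain ⟨f, hf, hfd, hfc, hfi⟩ := CentralPairs.exists_same (B := B) (p := 2) (K' := H) (Star.centralizer_zp z) f0 hind0.1
  have hind : IsInducedBlock M H f B := hfi hind0
  have hbel : Below M D ed z f := ⟨hf, f0, hind0.1, ReflTransGen.single hf0n, hfc⟩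
  refine ⟨f, hind, hfd.trans hdef0, ?_⟩
  haveI := Fintype.ofFinite H
  have hfex : ¬ Exotic M B D ed z z f := fun h => h.2.2 ⟨1, f, hbel, by simp, fun w => by simp⟩
  -- inside the centralizer
  obtain ⟨P, hP⟩ := exists_isDefectGroup hM hf
  have hPQ : IsQuasiDihedral P := by
    obtain ⟨E, hE, hle⟩ := induced_defect_le hM hind hP
    have hcard : P.map H.subtype = E := by
      refine Subgroup.eq_of_le_of_card_ge hle (le_of_eq ?_)
      rw [Subgroup.card_map_of_injective (Subgroup.subtype_injective _), card_defectGroup hM hB hE,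
        card_defectGroup hM hf hP, hfd.trans hdef0]
    obtain ⟨t, ht⟩ := defect_groups_conj hM hB hD hE
    let ε : D ≃* P := ((D.equivMapOfInjective _ (MulEquiv.injective (MulAut.conj t))).trans
      (MulEquiv.subgroupCongr (hcard.trans ht).symm)).trans
      (P.equivMapOfInjective _ (Subgroup.subtype_injective _)).symm
    obtain ⟨n, hn, hc, x, v, hx, hv, hr⟩ := hQ
    refine ⟨n, hn, (Nat.card_congr ε.toEquiv).symm.trans hc, ε x, ε v, by rw [MulEquiv.orderOf_eq, hx],
      by rw [MulEquiv.orderOf_eq, hv], ?_⟩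
    rw [← map_inv, ← map_mul, ← map_mul, hr, map_pow]
  obtain ⟨ed', z', y', S', huniq'⟩ := exists_setting hM hf hP hPQ
  set zH : H := ⟨z, Subgroup.mem_centralizer_singleton_iff.mpr rfl⟩ with hzH
  have hzHc : ∀ v, zH * v = v * zH := fun v => Subtype.ext (cent_mul_comm v)
  have hzH2 : orderOf zH = 2 := by rw [hzH, Subgroup.orderOf_mk, S.hz2]
  have hz' : z' = zH := (huniq' zH (DihBlock.mem_defect_of_central hM hf hP hzH2 hzHc) hzH2
    fun d _ => (hzHc d).symm).symm
  subst hz'
  set UH := Finset.univ.filter fun w : H => w ≠ 1 ∧ ∃ k : ℕ, orderOf w = 2 ^ k with hUH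
  have hiH : ∀ w : H, ((invPart w : H) : G) = invPart (w : G) := fun w => by
    simp [invPart, Subgroup.orderOf_coe]
  have hnotconj : ∀ w : H, ¬ IsConj zH (invPart w) ↔ invPart (w : G) ≠ z := by
    intro w
    rw [not_iff_not, ← hiH, isConj_iff]
    constructor
    · rintro ⟨c, hc⟩
      rw [← hzHc c, mul_inv_cancel_right] at hc
      exact (congrArg Subtype.val hc).symm
    · intro h
      exact ⟨1, Subtype.ext (by simp [hzH, h])⟩
  have hfsum : ∑ w ∈ UH.filter (fun w : H => invPart (w : G) = z),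
      (LocalRank.weight M 2 {f} (Subgroup.centralizer ({w} : Set H)) : ℤ) =
        (Nat.card H : ℤ) * ((Nat.card f : ℤ) - blockRank 2 f - 1) := by
    have h := LocalRank.card_sub_rank hM {f} fun β hβ => by rwa [Finset.mem_singleton.1 hβ]
    have hunion : LocalRank.unionBlocks ({f} : Finset (Set (IrrCharacter H))) = f := by
      ext ψ
      simp [LocalRank.unionBlocks]
    rw [hunion] at h
    replace h : (Nat.card H : ℤ) * ((Nat.card f : ℤ) - blockRank 2 f) =
        ∑ w ∈ UH, (LocalRank.weight M 2 {f} (Subgroup.centralizer ({w} : Set H)) : ℤ) := by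
      rw [h]
      exact Finset.sum_congr (by ext; simp [hUH]) fun _ _ => rfl
    rw [← Finset.sum_filter_add_sum_filter_not _ (fun w : H => invPart (w : G) = z)] at h
    have hrest : ∑ w ∈ UH.filter (fun w : H => ¬ invPart (w : G) = z),
        (LocalRank.weight M 2 {f} (Subgroup.centralizer ({w} : Set H)) : ℤ) = Nat.card H := by
      rw [Finset.sum_congr rfl (g := fun w : H =>
        if IsConj y' w then (Nat.card (Subgroup.centralizer ({w} : Set H)) : ℤ) else 0) fun w hw => by
        obtain ⟨hw', hne⟩ := Finset.mem_filter.mp hw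
        obtain ⟨-, hw1, hw2⟩ := Finset.mem_filter.mp hw'
        rw [S'.weight_away hw1 hw2 ((hnotconj w).mpr hne)]
        split_ifs <;> simp, ← Finset.sum_filter, Finset.filter_filter]
      rw [show UH.filter (fun w : H => ¬ invPart (w : G) = z ∧ IsConj y' w) =
          Finset.univ.filter (fun w : H => IsConj y' w) by
        ext w
        simp only [hUH, Finset.mem_filter, Finset.mem_univ, true_and]
        refine ⟨fun h => h.2.2, fun h => ?_⟩
        obtain ⟨a, ha⟩ := isConj_iff.mp h
        have ho : orderOf w = 2 := by rw [← ha, show a * y' * a⁻¹ = MulAut.conj a y' from rfl, MulEquiv.orderOf_eq, S'.hy2]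
        refine ⟨⟨fun h1 => by rw [h1, orderOf_one] at ho; omega, 1, by rw [ho, pow_one]⟩, fun h1 => ?_, h⟩
        have e1 : invPart (w : G) = (w : G) := by
          rw [invPart, Subgroup.orderOf_coe, ho, Nat.div_self two_pos, pow_one]
        rw [e1] at h1
        refine S'.hne ?_
        calc y' = a⁻¹ * w * a := by rw [← ha]; group
          _ = zH := by rw [show w = zH from Subtype.ext h1, mul_assoc, hzHc a, inv_mul_cancel_left]]
      rw [Finset.sum_congr rfl (g := fun _ => (Nat.card (Subgroup.centralizer ({y'} : Set H)) : ℤ)) fun w hw => ?_,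
        Finset.sum_const, nsmul_eq_mul, ← Fintype.card_subtype, ← Nat.card_eq_fintype_card, ← Nat.cast_mul,
        card_conjClass_mul_centralizer y']
      have h1 : Nat.card {v : H // IsConj y' v} = Nat.card {v : H // IsConj w v} :=
        Nat.card_congr (Equiv.subtypeEquivRight fun v =>
          ⟨fun h => (Finset.mem_filter.mp hw).2.symm.trans h, fun h => (Finset.mem_filter.mp hw).2.trans h⟩)
      have h2 := card_conjClass_mul_centralizer w
      rw [← h1, ← card_conjClass_mul_centralizer y'] at h2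
      exact_mod_cast Nat.eq_of_mul_eq_mul_left (Nat.pos_of_ne_zero (card_conjClass_ne_zero y')) h2
    rw [hrest] at h
    linarith
  -- the blocks over the centralizer
  set Sz := Finset.univ.filter fun β : Set (IrrCharacter H) => IsInducedBlock M H β B with hSz
  have hfS : f ∈ Sz := Finset.mem_filter.mpr ⟨Finset.mem_univ _, hind⟩
  set η : ℤ := if ∃ β, Exotic M B D ed z z β then 1 else 0 with hη
  set U := Finset.univ.filter fun w : G => w ≠ 1 ∧ ∃ k : ℕ, orderOf w = 2 ^ k with hU
  set W : G → ℤ := fun w => (LocalRank.weight M 2 {B} (Subgroup.centralizer ({w} : Set G)) : ℤ) with hW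
  have hτ : ∑ w ∈ U.filter (fun w => invPart w = z), W w =
      (Nat.card H : ℤ) * ((Nat.card f : ℤ) - blockRank 2 f - 1 + η) := by
    have e1 : ∑ w ∈ U.filter (fun w => invPart w = z), W w =
        ∑ w ∈ UH.filter (fun w : H => invPart (w : G) = z),
          ∑ β ∈ Sz, (LocalRank.weight M 2 {β} (Subgroup.centralizer ({w} : Set H)) : ℤ) := by
      symm
      refine Finset.sum_bij (fun (w : H) _ => (w : G)) ?_ (fun a _ b _ h => Subtype.ext h) ?_ ?_
      · intro w hw
        simp only [hUH, hU, Finset.mem_filter, Finset.mem_univ, true_and] at hw ⊢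
        obtain ⟨⟨h1, k, hk⟩, h2⟩ := hw
        exact ⟨⟨fun h => h1 (Subtype.ext h), k, by rw [Subgroup.orderOf_coe, hk]⟩, h2⟩
      · intro v hv
        simp only [hU, Finset.mem_filter, Finset.mem_univ, true_and] at hv
        obtain ⟨⟨h1, k, hk⟩, h2⟩ := hv
        refine ⟨⟨v, by rw [hH, ← h2]; exact centralizer_le_invPart v (Subgroup.mem_centralizer_singleton_iff.mpr rfl)⟩,
          ?_, rfl⟩
        simp only [hUH, Finset.mem_filter, Finset.mem_univ, true_and]
        exact ⟨⟨fun h => h1 (congrArg Subtype.val h), k, by rw [Subgroup.orderOf_mk, hk]⟩, h2⟩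
      · intro w hw
        simp only [hUH, Finset.mem_filter, Finset.mem_univ, true_and] at hw
        obtain ⟨⟨-, hk⟩, h2⟩ := hw
        rw [← Nat.cast_sum, ← weight_split hM, hW]
        refine congrArg Nat.cast ?_
        have hle := centralizer_le_invPart (w : G)
        rw [h2] at hle
        rw [hSz, LocalRank.weight_trans hM H hk B, inf_eq_right.mpr hle]
    rw [e1, Finset.sum_comm, ← Finset.add_sum_erase _ _ hfS, hfsum, mul_add]
    congr 1
    rw [hη]
    split_ifs with hex
    · obtain ⟨β, hβ⟩ := hex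
      rw [Finset.sum_eq_single β]
      · have h := S.exotic_rank_sum hβ
        rw [mul_one, ← Nat.cast_sum, ← h, hUH, Finset.filter_filter]
      · intro β' hβ' hne
        obtain ⟨hne', hmem⟩ := Finset.mem_erase.mp hβ'
        exfalso
        by_cases hx : Exotic M B D ed z z β'
        · exact hne (S.exotic_unique hx hβ)
        · exact hne' (S.plain_unique (Finset.mem_filter.mp hmem).2 hx hbel)
      · refine fun h => absurd ?_ h
        rw [Finset.mem_erase, hSz, Finset.mem_filter]
        refine ⟨fun h' => hfex ?_, Finset.mem_univ _, hβ.2.1⟩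
        rw [← h']
        exact hβ
    · rw [mul_zero]
      refine Finset.sum_eq_zero fun β' hβ' => ?_
      obtain ⟨hne', hmem⟩ := Finset.mem_erase.mp hβ'
      exact absurd (S.plain_unique (Finset.mem_filter.mp hmem).2 (fun hx => hex ⟨β', hx⟩) hbel) hne'
  -- the whole group
  have hG := LocalRank.card_sub_rank hM {B} fun β hβ => by rwa [Finset.mem_singleton.1 hβ]
  have hunion : LocalRank.unionBlocks ({B} : Finset (Set (IrrCharacter G))) = B := by
    ext ψ
    simp [LocalRank.unionBlocks]
  rw [hunion, ← hU, ← Finset.sum_filter_add_sum_filter_not _ (fun w => IsConj z (invPart w))] at hG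
  have hfib : ∑ w ∈ U.filter (fun w => IsConj z (invPart w)), W w =
      (Nat.card {x : G // IsConj z x} : ℤ) * ∑ w ∈ U.filter (fun w => invPart w = z), W w := by
    rw [← Finset.sum_fiberwise_of_maps_to (t := Finset.univ.filter fun x => IsConj z x) (g := invPart)
        (fun w hw => Finset.mem_filter.mpr ⟨Finset.mem_univ _, (Finset.mem_filter.1 hw).2⟩),
      Finset.sum_congr rfl (g := fun _ => ∑ w ∈ U.filter (fun w => invPart w = z), W w), Finset.sum_const,
      nsmul_eq_mul, ← Fintype.card_subtype, ← Nat.card_eq_fintype_card]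
    intro x hx
    obtain ⟨c, hc⟩ := isConj_iff.mp (Finset.mem_filter.1 hx).2
    refine Finset.sum_bij' (fun w _ => c⁻¹ * w * c) (fun w _ => c * w * c⁻¹) ?_ ?_ ?_ ?_ ?_
    · intro w hw
      simp only [hU, Finset.mem_filter, Finset.mem_univ, true_and] at hw ⊢
      obtain ⟨⟨⟨h1, h2⟩, -⟩, h4⟩ := hw
      refine ⟨⟨fun h => h1 ?_, ?_⟩, ?_⟩
      · calc w = c * (c⁻¹ * w * c) * c⁻¹ := by group
          _ = 1 := by rw [h]; group
      · rwa [show c⁻¹ * w * c = MulAut.conj c⁻¹ w by simp, MulEquiv.orderOf_eq]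
      · have h5 := invPart_conj c⁻¹ w
        rw [inv_inv] at h5
        rw [h5, h4, ← hc]
        group
    · intro w hw
      simp only [hU, Finset.mem_filter, Finset.mem_univ, true_and] at hw ⊢
      obtain ⟨⟨h1, h2⟩, h4⟩ := hw
      refine ⟨⟨⟨fun h => h1 (conj_eq_one_iff.mp h), ?_⟩, ?_⟩, ?_⟩
      · rwa [show c * w * c⁻¹ = MulAut.conj c w from rfl, MulEquiv.orderOf_eq]
      · rw [invPart_conj, h4]
        exact isConj_iff.mpr ⟨c, rfl⟩
      · rw [invPart_conj, h4, hc]
    · intro w _; group
    · intro w _; group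
    · intro w _
      rw [hW]
      refine congrArg Nat.cast (LocalRank.weight_conj _ c⁻¹ fun v => ?_)
      rw [Subgroup.mem_centralizer_singleton_iff, Subgroup.mem_centralizer_singleton_iff]
      constructor <;> intro h
      · calc c⁻¹ * v * c⁻¹⁻¹ * (c⁻¹ * w * c) = c⁻¹ * (v * w) * c := by group
          _ = c⁻¹ * (w * v) * c := by rw [h]
          _ = _ := by group
      · calc v * w = c * ((c⁻¹ * v * c⁻¹⁻¹) * (c⁻¹ * w * c)) * c⁻¹ := by group
          _ = c * ((c⁻¹ * w * c) * (c⁻¹ * v * c⁻¹⁻¹)) * c⁻¹ := by rw [h]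
          _ = _ := by group
  have hout : ∑ w ∈ U.filter (fun w => ¬ IsConj z (invPart w)), W w =
      if IsConj z y then 0 else (Nat.card G : ℤ) := by
    rw [Finset.sum_congr rfl (g := fun w : G =>
      if IsConj y w then (Nat.card (Subgroup.centralizer ({w} : Set G)) : ℤ) else 0) fun w hw => by
      obtain ⟨hw', hne⟩ := Finset.mem_filter.mp hw
      obtain ⟨-, hw1, hw2⟩ := Finset.mem_filter.mp hw'
      rw [hW]
      dsimp only
      rw [S.weight_away hw1 hw2 hne]
      split_ifs <;> simp, ← Finset.sum_filter, Finset.filter_filter]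
    have hconj : ∀ w, IsConj y w → (w ∈ U ∧ (IsConj z (invPart w) ↔ IsConj z y)) := by
      intro w hw
      obtain ⟨a, ha⟩ := isConj_iff.mp hw
      have ho : orderOf w = 2 := by rw [← ha, show a * y * a⁻¹ = MulAut.conj a y from rfl, MulEquiv.orderOf_eq, S.hy2]
      refine ⟨Finset.mem_filter.mpr ⟨Finset.mem_univ _, fun h1 => by rw [h1, orderOf_one] at ho; omega,
        1, by rw [ho, pow_one]⟩, ?_⟩
      rw [invPart, ho, Nat.div_self two_pos, pow_one]
      exact ⟨fun h => h.trans hw.symm, fun h => h.trans hw⟩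
    split_ifs with hzy
    · rw [Finset.sum_eq_zero fun w hw => absurd ((hconj w (Finset.mem_filter.mp hw).2.2).2.mpr hzy)
        (Finset.mem_filter.mp hw).2.1]
    · rw [show U.filter (fun w => ¬ IsConj z (invPart w) ∧ IsConj y w) = Finset.univ.filter (fun w => IsConj y w) by
        ext w
        simp only [Finset.mem_filter, Finset.mem_univ, true_and]
        exact ⟨fun h => h.2.2, fun h => ⟨(hconj w h).1, fun h' => hzy ((hconj w h).2.mp h'), h⟩⟩,
        Finset.sum_congr rfl (g := fun _ => (Nat.card (Subgroup.centralizer ({y} : Set G)) : ℤ)) fun w hw => ?_,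
        Finset.sum_const, nsmul_eq_mul, ← Fintype.card_subtype, ← Nat.card_eq_fintype_card, ← Nat.cast_mul,
        card_conjClass_mul_centralizer y]
      have h1 : Nat.card {v : G // IsConj y v} = Nat.card {v : G // IsConj w v} :=
        Nat.card_congr (Equiv.subtypeEquivRight fun v =>
          ⟨fun h => (Finset.mem_filter.mp hw).2.symm.trans h, fun h => (Finset.mem_filter.mp hw).2.trans h⟩)
      have h2 := card_conjClass_mul_centralizer w
      rw [← h1, ← card_conjClass_mul_centralizer y] at h2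
      exact_mod_cast Nat.eq_of_mul_eq_mul_left (Nat.pos_of_ne_zero (card_conjClass_ne_zero y)) h2
  have hcc : Nat.card {x : G // IsConj z x} * Nat.card H = Nat.card G := card_conjClass_mul_centralizer z
  rw [hfib, hτ, hout, ← mul_assoc, ← Nat.cast_mul, hcc] at hG
  have hGpos : (Nat.card G : ℤ) ≠ 0 := Nat.cast_ne_zero.mpr Nat.card_pos.ne'
  by_cases hzy : IsConj z y
  · rw [if_pos hzy, add_zero] at hG
    have h := mul_left_cancel₀ hGpos hG
    rw [hη] at h
    split_ifs at h with hex
    · exact Or.inr ⟨by linarith, z, hex⟩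
    · exact Or.inl (by linarith)
  · obtain ⟨fy, -, hfy⟩ := S.below_exists S.hy
    have hη0 : η = 0 := by
      rw [hη, if_neg]
      rintro ⟨β, hβ⟩
      exact hzy (S.conj_of_exotic hβ).symm
    rw [if_neg hzy, hη0, add_zero] at hG
    have h : (Nat.card B : ℤ) - blockRank 2 B = (Nat.card f : ℤ) - blockRank 2 f - 1 + 1 := by
      refine mul_left_cancel₀ hGpos ?_
      linear_combination hG
    exact Or.inr ⟨by linarith, y, fy, S.exotic_of_not_conj hzy hfy⟩

end Cfsg.Agent.Char.SemiBlock
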