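import Cfsg.Agent.Lib.Char.QuatBlock.Family
import Cfsg.Agent.Lib.Char.DihedralBlock.Column
import Cfsg.Agent.Lib.Fusion.QuasiDihedral

/-!
# The semidihedral groups as members of the axis family
-/

set_option autoImplicit false
set_option linter.unusedSectionVars false
set_option linter.style.haveILetI false

namespace Cfsg.Agent.Char.SemiBlock

open Cfsg
open scoped ComplexConjugate

/-- Half of the order of the cyclic subgroup of index two. -/
abbrev half (e : ℕ) : ℕ := 2 ^ (e + 1)

/-- The exponent by which a reflection acts. -/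
def tw (e : ℕ) : ZMod (2 * half e) := (half e : ZMod (2 * half e)) - 1

theorem half_add_half (e : ℕ) : (half e : ZMod (2 * half e)) + half e = 0 := by
  rw [← Nat.cast_add, ← two_mul, ZMod.natCast_self]

theorem half_even_mul (e : ℕ) {x : ZMod (2 * half e)} (y : ZMod (2 * half e)) (h : x = y + y) :
    (half e : ZMod (2 * half e)) * x = 0 := by
  rw [h, mul_add, ← add_mul, half_add_half, zero_mul]

theorem tw_sq (e : ℕ) : tw e * tw e = 1 := by
  have h : (half e : ZMod (2 * half e)) * half e = 0 :=
    half_even_mul e ((2 ^ e : ℕ) : ZMod (2 * half e)) (by rw [← Nat.cast_add]; congr 1; rw [half, pow_succ]; ring)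
  unfold tw
  linear_combination h - half_add_half e

/-- The semidihedral group with cyclic subgroup of order `2 ^ (e + 2)`. -/
inductive SD (e : ℕ) : Type
  | a : ZMod (2 * half e) → SD e
  | b : ZMod (2 * half e) → SD e
  deriving DecidableEq

namespace SD

variable {e : ℕ}

instance : Mul (SD e) :=
  ⟨fun x y => match x, y with
    | a i, a j => a (i + j)
    | a i, b j => b (i + j)
    | b i, a j => b (i + tw e * j)
    | b i, b j => a (i + tw e * j)⟩

instance : One (SD e) := ⟨a 0⟩

instance : Inv (SD e) :=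
  ⟨fun x => match x with
    | a i => a (-i)
    | b i => b (-(tw e * i))⟩

theorem one_def : (1 : SD e) = a 0 := rfl

theorem a_mul_a (i j : ZMod (2 * half e)) : (a i : SD e) * a j = a (i + j) := rfl

theorem a_mul_b (i j : ZMod (2 * half e)) : (a i : SD e) * b j = b (i + j) := rfl

theorem b_mul_a (i j : ZMod (2 * half e)) : (b i : SD e) * a j = b (i + tw e * j) := rfl

theorem b_mul_b (i j : ZMod (2 * half e)) : (b i : SD e) * b j = a (i + tw e * j) := rfl

theorem inv_a (i : ZMod (2 * half e)) : (a i : SD e)⁻¹ = a (-i) := rfl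

theorem inv_b (i : ZMod (2 * half e)) : (b i : SD e)⁻¹ = b (-(tw e * i)) := rfl

instance : Group (SD e) := Group.ofLeftAxioms
  (by
    have h := tw_sq e
    rintro (i | i) (j | j) (k | k) <;>
      simp only [a_mul_a, a_mul_b, b_mul_a, b_mul_b] <;> congr 1 <;>
      first | ring1 | linear_combination k * h | linear_combination -k * h)
  (by rintro (i | i) <;> simp only [one_def, a_mul_a, a_mul_b] <;> rw [zero_add])
  (by
    have h := tw_sq e
    rintro (i | i) <;> simp only [one_def, inv_a, inv_b, a_mul_a, b_mul_b] <;> congr 1 <;> ring)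

/-- The elements listed by their two kinds. -/
def equivSum : ZMod (2 * half e) ⊕ ZMod (2 * half e) ≃ SD e where
  toFun s := s.elim a b
  invFun
    | a i => Sum.inl i
    | b i => Sum.inr i
  left_inv := by rintro (i | i) <;> rfl
  right_inv := by rintro (i | i) <;> rfl

instance : Fintype (SD e) := Fintype.ofEquiv _ equivSum

theorem card_eq : Nat.card (SD e) = 2 ^ (e + 3) := by
  rw [← Nat.card_congr equivSum, Nat.card_sum, Nat.card_zmod, half]
  ring

theorem sum_split (F : SD e → ℂ) : ∑ y, F y = (∑ i, F (a i)) + ∑ i, F (b i) := by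
  rw [← Equiv.sum_comp equivSum F, Fintype.sum_sum_type]
  rfl

theorem a_pow (i : ZMod (2 * half e)) (k : ℕ) : (a i : SD e) ^ k = a ((k : ZMod (2 * half e)) * i) := by
  induction k with
  | zero => simp [one_def]
  | succ k ih => rw [pow_succ, ih, a_mul_a, Nat.cast_succ, add_mul, one_mul]

/-! ### The characters of degree two -/

variable {ζ : ℂ} (hζ : IsPrimitiveRoot ζ (2 * half e))

/-- The character induced from a linear character of the cyclic subgroup. -/
noncomputable def th (t : ZMod (2 * half e)) : SD e → ℂ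
  | a i => dihE hζ (t * i) + dihE hζ (tw e * t * i)
  | b _ => 0

/-- Its representation. -/
noncomputable def mat (t : ZMod (2 * half e)) : SD e →* Matrix (Fin 2) (Fin 2) ℂ where
  toFun
    | a i => !![dihE hζ (t * i), 0; 0, dihE hζ (tw e * t * i)]
    | b i => !![0, dihE hζ (t * i); dihE hζ (tw e * t * i), 0]
  map_one' := by
    simp only [one_def, mul_zero, AddChar.map_zero_eq_one]
    exact Matrix.one_fin_two.symm
  map_mul' := by
    have h : ∀ x, tw e * t * (tw e * x) = t * x := fun x => by linear_combination (t * x) * tw_sq e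
    rintro (i | i) (j | j) <;>
      simp only [a_mul_a, a_mul_b, b_mul_a, b_mul_b, Matrix.mul_fin_two, mul_zero, zero_mul, add_zero,
        zero_add, ← AddChar.map_add_eq_mul, mul_add, h] <;>
      ring_nf

theorem th_isCharacter (t : ZMod (2 * half e)) : IsCharacter _ (th hζ t) := by
  let ρ : Representation ℂ (SD e) (Fin 2 → ℂ) :=
    (Matrix.toLinAlgEquiv' (R := ℂ) (n := Fin 2)).toRingEquiv.toMonoidHom.comp (mat hζ t)
  refine ⟨2, ρ, funext fun y => ?_⟩
  show LinearMap.trace ℂ _ (Matrix.toLin' (mat hζ t y)) = _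
  rw [Matrix.trace_toLin'_eq]
  rcases y with i | i <;> simp [mat, th, Matrix.trace_fin_two]

theorem th_tw (t : ZMod (2 * half e)) : th hζ (tw e * t) = th hζ t := by
  funext y
  rcases y with i | i
  · simp only [th]
    rw [show tw e * (tw e * t) * i = t * i by linear_combination (t * i) * tw_sq e, add_comm]
  · rfl

theorem th_one (t : ZMod (2 * half e)) : th hζ t 1 = 2 := by
  simp only [one_def, th, mul_zero, AddChar.map_zero_eq_one]
  norm_num

theorem th_inner (s t : ZMod (2 * half e)) :
    classInner (th hζ s) (th hζ t) = (if s = t then 1 else 0) + if s = tw e * t then (1 : ℂ) else 0 := by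
  have key : ∀ i, th hζ s (a i) * conj (th hζ t (a i)) = dihE hζ ((s - t) * i) + dihE hζ ((s - tw e * t) * i) +
      dihE hζ ((tw e * s - t) * i) + dihE hζ ((tw e * s - tw e * t) * i) := by
    intro i
    simp only [th, map_add, DihBlock.conj_dihE, add_mul, mul_add, ← AddChar.map_add_eq_mul]
    ring_nf
  rw [classInner, card_eq, sum_split, show (∑ i, th hζ s (b i) * conj (th hζ t (b i))) = 0 from
      Finset.sum_eq_zero fun i _ => by simp [th], add_zero, Finset.sum_congr rfl fun i _ => key i]
  simp only [Finset.sum_add_distrib, dihE_sum_left]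
  have h := tw_sq e
  have e1 : (s - t = 0) ↔ s = t := sub_eq_zero
  have e2 : (s - tw e * t = 0) ↔ s = tw e * t := sub_eq_zero
  have e3 : (tw e * s - t = 0) ↔ s = tw e * t :=
    ⟨fun hh => by linear_combination tw e * hh - s * h, fun hh => by rw [hh]; linear_combination t * h⟩
  have e4 : (tw e * s - tw e * t = 0) ↔ s = t :=
    ⟨fun hh => by linear_combination tw e * hh - (s - t) * h, fun hh => by rw [hh, sub_self]⟩
  simp only [e1, e2, e3, e4]
  have hc : ((2 * half e : ℕ) : ℂ) * 2 = (2 : ℂ) ^ (e + 3) := by rw [half]; push_cast; ring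
  have h0 : ((2 * half e : ℕ) : ℂ) ≠ 0 := Nat.cast_ne_zero.mpr (by simp [half])
  push_cast [← hc] at h0 ⊢
  split_ifs <;> field_simp <;> ring

/-- The index of the character with a given label. -/
def lab (e j : ℕ) : ℤ := if Even j then (j : ℤ) else (j : ℤ) - 2 ^ e

/-- The characters in the order of their central values. -/
noncomputable def ch (j : ℕ) : SD e → ℂ := th hζ (lab e j : ZMod (2 * half e))

theorem cast_eq_zero {x : ℤ} (h : (x : ZMod (2 * half e)) = 0) (hlo : -(4 * 2 ^ e) < x) (hhi : x < 4 * 2 ^ e) :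
    x = 0 := by
  rw [ZMod.intCast_zmod_eq_zero_iff_dvd] at h
  refine Int.eq_zero_of_abs_lt_dvd h ?_
  rw [abs_lt]
  push_cast [half, pow_succ]
  constructor <;> linarith

theorem even_pow (he : 1 ≤ e) : Even ((2 : ℤ) ^ e) := (Int.even_pow).mpr ⟨even_two, by omega⟩

theorem half_mul_odd {x : ℤ} (hx : Odd x) :
    ((half e : ℕ) : ZMod (2 * half e)) * (x : ZMod (2 * half e)) = half e := by
  obtain ⟨k, rfl⟩ := hx
  have := half_even_mul e (x := ((2 * k : ℤ) : ZMod (2 * half e))) (k : ZMod (2 * half e)) (by push_cast; ring)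
  push_cast at this ⊢
  linear_combination this

theorem tw_mul (x : ℤ) : tw e * (x : ZMod (2 * half e)) =
    if Even x then ((-x : ℤ) : ZMod (2 * half e)) else ((-x + 2 * 2 ^ e : ℤ) : ZMod (2 * half e)) := by
  split_ifs with h
  · obtain ⟨k, rfl⟩ := h
    have := half_even_mul e (x := ((k + k : ℤ) : ZMod (2 * half e))) (k : ZMod (2 * half e)) (by push_cast; ring)
    rw [tw, sub_mul, this]
    push_cast
    ring
  · rw [tw, sub_mul, half_mul_odd (Int.not_even_iff_odd.mp h), half, pow_succ]
    push_cast
    ring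

theorem lab_even (he : 1 ≤ e) (j : ℕ) : Even (lab e j) ↔ Even j := by
  unfold lab
  split_ifs with h
  · exact iff_of_true ((Int.even_coe_nat _).mpr h) h
  · refine iff_of_false (fun h' => h ((Int.even_coe_nat _).mp ?_)) h
    have := h'.add (even_pow (e := e) he)
    rwa [sub_add_cancel] at this

theorem lab_bounds {j : ℕ} (hj : j ≤ half e) :
    (Even j → 0 ≤ lab e j ∧ lab e j ≤ 2 * 2 ^ e) ∧ (¬ Even j → -(2 : ℤ) ^ e < lab e j ∧ lab e j < 2 ^ e) := by
  have hj' : (j : ℤ) ≤ 2 * 2 ^ e := by
    have : (j : ℤ) ≤ (half e : ℕ) := by exact_mod_cast hj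
    push_cast [half, pow_succ'] at this
    exact this
  unfold lab
  constructor <;> intro h
  · rw [if_pos h]; omega
  · rw [if_neg h]
    obtain ⟨k, hk⟩ := Nat.not_even_iff_odd.mp h
    omega

theorem lab_eq (he : 1 ≤ e) {b d : ℕ} (hb : b ≤ half e) (hd : d ≤ half e) :
    ((lab e b : ZMod (2 * half e)) = (lab e d : ZMod (2 * half e)) ↔ b = d) ∧
      ((lab e b : ZMod (2 * half e)) = tw e * (lab e d : ZMod (2 * half e)) ↔ b = d ∧ (b = 0 ∨ b = half e)) := by
  have hP := pow_pos (two_pos (α := ℤ)) e
  have hm : (half e : ℤ) = 2 * 2 ^ e := by push_cast [half, pow_succ']; ring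
  have hparity : ∀ {x y : ℤ}, (x : ZMod (2 * half e)) = y → (Even x ↔ Even y) := fun {x y} h => by
    rw [ZMod.intCast_eq_intCast_iff_dvd_sub] at h
    have h2 : (2 : ℤ) ∣ y - x := dvd_trans ⟨(half e : ℤ), by push_cast; ring⟩ h
    obtain ⟨k, hk⟩ := h2
    rw [show y = x + 2 * k by omega, Int.even_add]
    simp
  have hneg : ∀ x : ℤ, Even (-x + 2 * 2 ^ e) ↔ Even x := fun x => by simp [Int.even_add]
  obtain ⟨hbe, hbo⟩ := lab_bounds hb
  obtain ⟨hde, hdo⟩ := lab_bounds hd
  constructor
  · refine ⟨fun h => ?_, fun h => by rw [h]⟩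
    have hp : Even b ↔ Even d := by rw [← lab_even he b, hparity h, lab_even he]
    have h0 : ((lab e b - lab e d : ℤ) : ZMod (2 * half e)) = 0 := by push_cast; rw [h, sub_self]
    by_cases hev : Even b
    · have := cast_eq_zero h0 (by linarith [(hbe hev).1, (hde (hp.mp hev)).2]) (by linarith [(hbe hev).2, (hde (hp.mp hev)).1])
      unfold lab at this
      rw [if_pos hev, if_pos (hp.mp hev)] at this
      omega
    · have hod : ¬ Even d := fun h => hev (hp.mpr h)
      have := cast_eq_zero h0 (by linarith [(hbo hev).1, (hdo hod).2]) (by linarith [(hbo hev).2, (hdo hod).1])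
      unfold lab at this
      rw [if_neg hev, if_neg hod] at this
      omega
  · rw [tw_mul]
    by_cases hd2 : Even d
    · rw [if_pos ((lab_even he d).mpr hd2)]
      refine ⟨fun h => ?_, fun ⟨h, h'⟩ => ?_⟩
      · have hb2 : Even b := by rw [← lab_even he b, hparity h, even_neg, lab_even he]; exact hd2
        have h0 : ((lab e b + lab e d : ℤ) : ZMod (2 * half e)) = 0 := by
          push_cast at h ⊢; rw [h]; ring
        rw [ZMod.intCast_zmod_eq_zero_iff_dvd] at h0
        obtain ⟨k, hk⟩ := h0
        unfold lab at hk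
        rw [if_pos hb2, if_pos hd2] at hk
        push_cast at hk
        have hbZ : (b : ℤ) ≤ half e := by exact_mod_cast hb
        have hdZ : (d : ℤ) ≤ half e := by exact_mod_cast hd
        push_cast at hbZ hdZ
        have hk1 : k < 2 := by
          by_contra hge
          have := mul_le_mul_of_nonneg_left (not_lt.mp hge) (show (0 : ℤ) ≤ 2 * 2 ^ (e + 1) by positivity)
          linarith [pow_pos (two_pos (α := ℤ)) (e + 1)]
        have hk0 : 0 ≤ k := by
          by_contra hlt
          have := mul_le_mul_of_nonneg_left (show k ≤ -1 by omega) (show (0 : ℤ) ≤ 2 * 2 ^ (e + 1) by positivity)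
          linarith [pow_pos (two_pos (α := ℤ)) (e + 1)]
        interval_cases k
        · omega
        · have h1 : (b : ℤ) = 2 ^ (e + 1) := by linarith
          have h2 : (d : ℤ) = 2 ^ (e + 1) := by linarith
          exact ⟨by omega, Or.inr (by exact_mod_cast h1)⟩
      · subst h
        unfold lab
        rw [if_pos hd2]
        rcases h' with h' | h' <;> subst h'
        · simp
        · push_cast
          exact (neg_eq_of_add_eq_zero_left (by simpa using half_add_half e)).symm
    · have hdl : ¬ Even (lab e d) := fun h => hd2 ((lab_even he d).mp h)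
      rw [if_neg hdl]
      refine iff_of_false (fun h => ?_) fun ⟨h, h'⟩ => hd2 ?_
      · have hb2 : ¬ Even b := fun hh => hdl ((hneg _).mp ((hparity h).mp ((lab_even he b).mpr hh)))
        have h0 : ((lab e b + lab e d - 2 * 2 ^ e : ℤ) : ZMod (2 * half e)) = 0 := by
          push_cast at h ⊢; rw [h]; ring
        have := cast_eq_zero h0 (by linarith [(hbo hb2).1, (hdo hd2).1]) (by linarith [(hbo hb2).2, (hdo hd2).2])
        linarith [(hbo hb2).2, (hdo hd2).2]
      · subst h
        rcases h' with h' | h' <;> subst h'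
        · exact Even.zero
        · exact Nat.even_pow.mpr ⟨even_two, by omega⟩

theorem ch_inner (he : 1 ≤ e) {b d : ℕ} (hb : b ≤ half e) (hd : d ≤ half e) :
    classInner (ch hζ b) (ch hζ d) = if b = d then (if b = 0 ∨ b = half e then 2 else 1) else 0 := by
  obtain ⟨h1, h2⟩ := lab_eq he hb hd
  rw [ch, ch, th_inner]
  simp only [h1, h2]
  by_cases h : b = d <;> simp only [h, true_and, false_and, if_true, if_false, add_zero]
  split_ifs <;> norm_num

theorem ch_sum (he : 1 ≤ e) (y : SD e) : (if y = 1 then (Nat.card (SD e) : ℂ) else 0) =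
    ch hζ 0 y + ch hζ (half e) y + ∑ j ∈ Finset.range (half e - 1), 2 * ch hζ (j + 1) y := by
  have hpos : 1 ≤ half e := Nat.one_le_two_pow
  let f : Bool ⊕ (Fin (half e - 1) ⊕ Fin (half e - 1)) → ZMod (2 * half e) :=
    Sum.elim (fun s => (lab e (if s then half e else 0) : ZMod (2 * half e)))
      (Sum.elim (fun j => (lab e (j + 1) : ZMod (2 * half e))) fun j => tw e * (lab e (j + 1) : ZMod (2 * half e)))
  have hbd : ∀ j : Fin (half e - 1), (j : ℕ) + 1 ≤ half e := fun j => by omega
  have hbs : ∀ s : Bool, (if s then half e else 0) ≤ half e := fun s => by cases s <;> simp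
  have hinj : Function.Injective f := by
    rintro (s | j | j) (s' | j' | j') h <;> simp only [f, Sum.elim_inl, Sum.elim_inr] at h
    · have := ((lab_eq he (hbs s) (hbs s')).1).mp h
      cases s <;> cases s' <;> simp at this ⊢ <;> omega
    · have := ((lab_eq he (hbs s) (hbd j')).1).mp h
      exfalso; cases s <;> simp at this <;> omega
    · have := (((lab_eq he (hbs s) (hbd j')).2).mp h).1
      exfalso; cases s <;> simp at this <;> omega
    · have := ((lab_eq he (hbd j) (hbs s')).1).mp h
      exfalso; cases s' <;> simp at this <;> omega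
    · rw [((lab_eq he (hbd j) (hbd j')).1)] at h
      exact congrArg (fun j => Sum.inr (Sum.inl j)) (Fin.ext (by omega))
    · have := (((lab_eq he (hbd j) (hbd j')).2).mp h).2
      exfalso; omega
    · have := (((lab_eq he (hbs s') (hbd j)).2).mp h.symm).1
      exfalso; cases s' <;> simp at this <;> omega
    · have := (((lab_eq he (hbd j') (hbd j)).2).mp h.symm).2
      exfalso; omega
    · have h' := congrArg (fun x => tw e * x) h
      simp only [← mul_assoc, tw_sq, one_mul] at h'
      rw [((lab_eq he (hbd j) (hbd j')).1)] at h'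
      exact congrArg (fun j => Sum.inr (Sum.inr j)) (Fin.ext (by omega))
  have hbij : Function.Bijective f := (Fintype.bijective_iff_injective_and_card f).mpr
    ⟨hinj, by simp only [Fintype.card_sum, Fintype.card_bool, Fintype.card_fin, ZMod.card]; omega⟩
  have hall : ∑ t, th hζ t y = if y = 1 then (Nat.card (SD e) : ℂ) else 0 := by
    rcases y with i | i
    · have h0 : tw e * i = 0 ↔ i = 0 := ⟨fun h => by linear_combination tw e * h - i * tw_sq e, fun h => by rw [h, mul_zero]⟩
      simp only [th, Finset.sum_add_distrib, card_eq, one_def, a.injEq]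
      rw [show (fun t : ZMod (2 * half e) => dihE hζ (t * i)) = fun t => dihE hζ (i * t) from
          funext fun t => congrArg _ (mul_comm t i),
        show (fun t : ZMod (2 * half e) => dihE hζ (tw e * t * i)) = fun t => dihE hζ ((tw e * i) * t) from
          funext fun t => by ring_nf, dihE_sum_left, dihE_sum_left]
      simp only [h0]
      split_ifs <;> (push_cast [half, pow_succ]; ring)
    · simp [th, one_def]
  rw [← hall, ← Function.Bijective.sum_comp hbij]
  simp only [Fintype.sum_sum_type, Fintype.sum_bool, f, Sum.elim_inl, Sum.elim_inr, th_tw, two_mul,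
    Finset.sum_add_distrib]
  rw [Fin.sum_univ_eq_sum_range (fun j => th hζ (lab e (j + 1) : ZMod (2 * half e)) y)]
  simp only [ch, if_true, Bool.false_eq_true, if_false]
  ring

theorem th_half (t : ℤ) : th hζ (t : ZMod (2 * half e)) (a (half e : ZMod (2 * half e))) = 2 * (-1) ^ t := by
  have hE : dihE hζ (half e : ZMod (2 * half e)) = -1 := by
    have h := DihBlock.dihE_half hζ (dvd_mul_right 2 (half e))
    rwa [Nat.mul_div_cancel_left _ two_pos] at h
  have h1 : tw e * (t : ZMod (2 * half e)) * half e = (t : ZMod (2 * half e)) * half e := by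
    have : tw e * (half e : ZMod (2 * half e)) = half e := by
      unfold tw
      linear_combination half_even_mul e (x := (half e : ZMod (2 * half e))) ((2 ^ e : ℕ) : ZMod (2 * half e))
        (by rw [← Nat.cast_add]; congr 1; rw [half, pow_succ]; ring) - half_add_half e
    linear_combination (t : ZMod (2 * half e)) * this
  simp only [th, h1]
  rcases Int.even_or_odd t with h | h
  · obtain ⟨k, hk⟩ := h
    rw [mul_comm (t : ZMod (2 * half e)), half_even_mul e (k : ZMod (2 * half e)) (by rw [hk]; push_cast; ring), AddChar.map_zero_eq_one,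
      Even.neg_one_zpow ⟨k, hk⟩]
    norm_num
  · rw [mul_comm (t : ZMod (2 * half e)), half_mul_odd h, hE, Odd.neg_one_zpow h]
    norm_num

theorem rot_pow (he : 1 ≤ e) {i : ZMod (2 * half e)} (hi : i ≠ 0) (hi' : i ≠ (half e : ZMod (2 * half e))) :
    ∃ k : ℕ, (a i : SD e) ^ 2 ^ k = a ((2 ^ e : ℕ) : ZMod (2 * half e)) ∨
      (a i : SD e) ^ 2 ^ k = (a ((2 ^ e : ℕ) : ZMod (2 * half e)))⁻¹ := by
  have hN : 2 * half e = 2 ^ (e + 2) := by rw [half, pow_succ' 2 (e + 1)]
  obtain ⟨k, hk⟩ := DihBlock.rot_pow_half hN (dvd_mul_right 2 (half e)) hi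
  rw [DihedralGroup.r_pow, Nat.mul_div_cancel_left _ two_pos, DihedralGroup.r.injEq] at hk
  rcases k with _ | k
  · exact absurd (by simpa using hk) hi'
  set h : ZMod (2 * half e) := ((2 ^ e : ℕ) : ZMod (2 * half e)) with hh
  have h2 : h + h = (half e : ZMod (2 * half e)) := by
    rw [hh, ← Nat.cast_add]; congr 1; rw [half, pow_succ]; ring
  have hxx : (((2 ^ k : ℕ) : ZMod (2 * half e)) * i - h) + (((2 ^ k : ℕ) : ZMod (2 * half e)) * i - h) = 0 := by
    rw [pow_succ, Nat.cast_mul, Nat.cast_two] at hk
    linear_combination hk - h2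
  refine ⟨k, ?_⟩
  rw [a_pow]
  rcases DihBlock.zmod_two_torsion (dvd_mul_right 2 (half e)) hxx with h0 | h0
  · exact Or.inl (congrArg a (sub_eq_zero.mp h0))
  · refine Or.inr ?_
    rw [inv_a]
    congr 1
    rw [Nat.mul_div_cancel_left _ two_pos] at h0
    linear_combination h0 + h2 + half_add_half e

/-- Forgetting the central involution. -/
def proj (e : ℕ) : SD e →* DihedralGroup (half e) where
  toFun
    | a i => DihedralGroup.r (ZMod.castHom (dvd_mul_left (half e) 2) (ZMod (half e)) i)
    | b i => DihedralGroup.sr (-ZMod.castHom (dvd_mul_left (half e) 2) (ZMod (half e)) i)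
  map_one' := by simp only [one_def, map_zero]; rfl
  map_mul' := by
    have ht : ZMod.castHom (dvd_mul_left (half e) 2) (ZMod (half e)) (tw e) = -1 := by
      rw [tw, map_sub, map_natCast, map_one, ZMod.natCast_self, zero_sub]
    rintro (i | i) (j | j) <;>
      simp only [a_mul_a, a_mul_b, b_mul_a, b_mul_b, DihedralGroup.r_mul_r, DihedralGroup.r_mul_sr,
        DihedralGroup.sr_mul_r, DihedralGroup.sr_mul_sr, map_add, map_mul, ht] <;> congr 1 <;> ring

theorem proj_surjective : Function.Surjective (proj e) := by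
  rintro (i | i)
  · obtain ⟨j, rfl⟩ := ZMod.castHom_surjective (dvd_mul_left (half e) 2) i
    exact ⟨a j, rfl⟩
  · obtain ⟨j, hj⟩ := ZMod.castHom_surjective (dvd_mul_left (half e) 2) (-i)
    exact ⟨b j, by show DihedralGroup.sr _ = _; rw [hj, neg_neg]⟩

theorem proj_eq_one {y : SD e} : proj e y = 1 ↔ y = 1 ∨ y = a (half e : ZMod (2 * half e)) := by
  constructor
  · intro h
    rcases y with i | i
    · have h' : ZMod.castHom (dvd_mul_left (half e) 2) (ZMod (half e)) i = 0 := DihedralGroup.r.inj h
      rw [← ZMod.natCast_zmod_val i, map_natCast, ZMod.natCast_eq_zero_iff] at h'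
      obtain ⟨t, ht⟩ := h'
      have hlt := ZMod.val_lt i
      have : t < 2 := by
        by_contra hge
        have := Nat.mul_le_mul_left (half e) (not_lt.mp hge)
        omega
      rw [← ZMod.natCast_zmod_val i, ht]
      interval_cases t
      · left; rw [mul_zero, Nat.cast_zero]; rfl
      · right; rw [mul_one]
    · exact nomatch h
  · rintro (rfl | rfl)
    · exact map_one _
    · show DihedralGroup.r _ = 1
      rw [map_natCast, ZMod.natCast_self]
      rfl

theorem half_ne : (half e : ZMod (2 * half e)) ≠ 0 := by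
  rw [Ne, ZMod.natCast_eq_zero_iff]
  intro h
  have h0 : 0 < half e := Nat.one_le_two_pow
  have := Nat.le_of_dvd h0 h
  omega

theorem orderOf_half : orderOf (a (half e : ZMod (2 * half e)) : SD e) = 2 := by
  refine orderOf_eq_prime ?_ ?_
  · rw [sq, a_mul_a, half_add_half, one_def]
  · rw [one_def, Ne, a.injEq]; exact half_ne

theorem tw_quarter (he : 1 ≤ e) :
    tw e * ((2 ^ e : ℕ) : ZMod (2 * half e)) = -((2 ^ e : ℕ) : ZMod (2 * half e)) := by
  have := half_even_mul e (x := ((2 ^ e : ℕ) : ZMod (2 * half e))) ((2 ^ (e - 1) : ℕ) : ZMod (2 * half e)) (by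
    rw [← Nat.cast_add]; congr 1; rw [← two_mul, ← pow_succ']; congr 1; omega)
  rw [tw, sub_mul, this]
  ring

theorem quarter_add_ne : ((2 ^ e : ℕ) : ZMod (2 * half e)) + ((2 ^ e : ℕ) : ZMod (2 * half e)) ≠ 0 := by
  rw [← Nat.cast_add, show 2 ^ e + 2 ^ e = half e by rw [half, pow_succ]; ring]
  exact half_ne

theorem tw_ne_one (he : 1 ≤ e) : tw e ≠ 1 := by
  intro h
  unfold tw at h
  have h2 : ((half e - 2 : ℕ) : ZMod (2 * half e)) = 0 := by
    rw [Nat.cast_sub (le_self_pow one_le_two (by omega)), Nat.cast_two]; linear_combination h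
  rw [ZMod.natCast_eq_zero_iff] at h2
  have h4 : 4 ≤ half e := le_trans (by norm_num) (pow_le_pow_right₀ one_le_two (show 2 ≤ e + 1 by omega))
  have := Nat.le_of_dvd (by omega) h2
  omega

/-- The semidihedral group as a member of the family. -/
noncomputable def family {e : ℕ} (he : 1 ≤ e) : QuatBlock.AxisFamily (SD e) e where
  ch := ch (Complex.isPrimitiveRoot_exp (2 * half e) (by simp [half]))
  h := a ((2 ^ e : ℕ) : ZMod (2 * half e))
  c := a (half e : ZMod (2 * half e))
  r := a 1
  flip := b 0
  hcard := card_eq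
  orderOf_h := by
    haveI := Fact.mk Nat.prime_two
    refine orderOf_eq_prime_pow (p := 2) (n := 1) ?_ ?_
    · rw [pow_one, sq, a_mul_a, one_def, a.injEq]
      exact quarter_add_ne
    · rw [a_pow, one_def, a.injEq, ← Nat.cast_mul, ZMod.natCast_eq_zero_iff]
      exact dvd_of_eq (by rw [half, pow_succ]; ring)
  orderOf_c := orderOf_half
  conj_h := by
    rintro (i | i)
    · left
      rw [a_mul_a, inv_a, a_mul_a]
      congr 1; ring
    · right
      rw [mul_inv_eq_iff_eq_mul, b_mul_a, inv_a, a_mul_b, tw_quarter he, add_comm]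
  flip_h := by rw [mul_inv_eq_iff_eq_mul, b_mul_a, inv_a, a_mul_b, tw_quarter he, add_comm]
  cent_h := by
    rintro (i | i) hc
    · refine ⟨(i.val : ℤ), ?_⟩
      show (a 1 : SD e) ^ (i.val : ℤ) = a i
      rw [zpow_natCast, a_pow, mul_one, ZMod.natCast_zmod_val]
    · exfalso
      have := hc.eq
      rw [b_mul_a, a_mul_b, b.injEq, tw_quarter he] at this
      exact quarter_add_ne (e := e) (by linear_combination -this)
  invol := by
    rintro (i | i) h2 hc
    · have h : (a i : SD e) ^ 2 = 1 := by rw [← h2]; exact pow_orderOf_eq_one _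
      rw [sq, a_mul_a, one_def, a.injEq] at h
      rcases DihBlock.zmod_two_torsion (dvd_mul_right 2 (half e)) h with rfl | h0
      · rw [← one_def, orderOf_one] at h2; omega
      · rw [h0, Nat.mul_div_cancel_left _ two_pos]
    · exfalso
      have := (hc (a 1)).eq
      rw [b_mul_a, a_mul_b, b.injEq, mul_one] at this
      exact tw_ne_one he (by linear_combination this)
  proj := proj e
  proj_surj := proj_surjective
  proj_ker _ := proj_eq_one
  ch_char _ := th_isCharacter _ _
  ch_one _ := th_one _ _
  ch_c j := by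
    rw [ch, th_half]
    congr 1
    rcases Nat.even_or_odd j with h | h
    · rw [Even.neg_one_zpow ((lab_even he j).mpr h), h.neg_one_pow]
    · rw [Odd.neg_one_zpow (Int.not_even_iff_odd.mp fun hh => Nat.not_even_iff_odd.mpr h ((lab_even he j).mp hh)),
        h.neg_one_pow]
  ch_inner _ _ hb hd := ch_inner _ he hb hd
  ch_sum y _ := by
    rw [← ch_sum _ he y]
    split_ifs <;> rfl
  ch_onRot b' d' hev y hy := by
    rcases y with i | i
    · refine rot_pow he (fun h => hy ?_) fun h => hy ?_
      · subst h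
        rw [← one_def, ch, ch, th_one, th_one]
      · subst h
        rw [ch, ch, th_half, th_half]
        have hp : Even (lab e b') ↔ Even (lab e d') := by rw [lab_even he, lab_even he]; exact Nat.even_add.mp hev
        by_cases hb : Even (lab e b')
        · rw [hb.neg_one_zpow, (hp.mp hb).neg_one_zpow]
        · rw [(Int.not_even_iff_odd.mp hb).neg_one_zpow,
            (Int.not_even_iff_odd.mp fun hh => hb (hp.mpr hh)).neg_one_zpow]
    · exact absurd rfl hy

end SD

universe u

open SD in
/-- A quasi-dihedral group is the model. -/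
theorem exists_model {S : Type u} [Group S] {n : ℕ} (hcard : Nat.card S = 2 ^ n) (hS : IsQuasiDihedral S) {e : ℕ}
    (hn : n = e + 3) : 1 ≤ e ∧ Nonempty (SD e ≃* S) := by
  haveI : Finite S := Nat.finite_of_card_ne_zero (by rw [hcard]; positivity)
  obtain ⟨Q⟩ := Fusion.exists_qdData hS (n := e + 2) (by rw [hcard, hn])
  have he : 1 ≤ e := by have := Q.hn; omega
  refine ⟨he, ?_⟩
  let X : ZMod (2 * half e) → S := fun i => Q.x ^ (i.val : ℤ)
  have hX : ∀ k : ℤ, X (k : ZMod (2 * half e)) = Q.x ^ k := fun k => by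
    show Q.x ^ _ = _
    rw [Q.zpow_eq_iff]
    have h : (((((k : ZMod (2 * half e))).val : ℤ)) : ZMod (2 * half e)) = (k : ZMod (2 * half e)) := by
      rw [Int.cast_natCast, ZMod.natCast_zmod_val]
    rw [ZMod.intCast_eq_intCast_iff_dvd_sub] at h
    convert h using 1
    push_cast [half, pow_succ]
    ring
  have hlift : ∀ i : ZMod (2 * half e), ∃ k : ℤ, (k : ZMod (2 * half e)) = i := fun i => ⟨i.val, by simp⟩
  have hXadd : ∀ i j, X (i + j) = X i * X j := fun i j => by
    obtain ⟨k, rfl⟩ := hlift i
    obtain ⟨l, rfl⟩ := hlift j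
    rw [← Int.cast_add, hX, hX, hX, zpow_add]
  have hXy : ∀ j, Q.y * X j = X (tw e * j) * Q.y := fun j => by
    obtain ⟨l, rfl⟩ := hlift j
    rw [hX, Q.y_mul_zpow, show tw e * (l : ZMod (2 * half e)) = (((Q.h - 1) * l : ℤ) : ZMod (2 * half e)) by
      rw [Fusion.QDData.h, tw, show e + 2 - 1 = e + 1 by omega]; push_cast [half]; ring, hX]
  let φ : SD e →* S :=
    { toFun := fun s => match s with
        | a i => X i
        | b i => X i * Q.y
      map_one' := by
        show X 0 = 1
        rw [← Int.cast_zero, hX, zpow_zero]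
      map_mul' := by
        rintro (i | i) (j | j)
        · exact hXadd i j
        · show X (i + j) * Q.y = X i * (X j * Q.y)
          rw [hXadd, mul_assoc]
        · show X (i + tw e * j) * Q.y = X i * Q.y * X j
          rw [mul_assoc (X i), hXy, ← mul_assoc, hXadd]
        · show X (i + tw e * j) = X i * Q.y * (X j * Q.y)
          rw [mul_assoc (X i), ← mul_assoc Q.y, hXy, mul_assoc (X _), Q.yy, mul_one, hXadd] }
  have hsurj : Function.Surjective φ := fun s => by
    obtain ⟨k, h | h⟩ := Q.exists_form s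
    · exact ⟨a (k : ZMod (2 * half e)), by show X _ = s; rw [hX, h]⟩
    · exact ⟨b (k : ZMod (2 * half e)), by show X _ * Q.y = s; rw [hX, h]⟩
  exact ⟨MulEquiv.ofBijective φ ((Nat.bijective_iff_surjective_and_card φ).mpr ⟨hsurj, by rw [SD.card_eq, hcard, hn]⟩)⟩

end Cfsg.Agent.Char.SemiBlock
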