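import Cfsg.Agent.Lib.Char.SemiBlock.Column
import Cfsg.Agent.Lib.Char.SemiBlock.Count
import Cfsg.Agent.Lib.Char.SemiBlock.Model

/-!
# The invariants of a block with semidihedral defect group

At most one character has the large height: two of them would force rank three, hence an exotic pair, whose column
cannot exist.
-/

set_option autoImplicit false
set_option linter.unusedSectionVars false
set_option linter.style.haveILetI false

namespace Cfsg.Agent.Char.SemiBlock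

open Cfsg
open QuatBlock (QB)

universe u

variable {G : Type u} [Group G] [Fintype G] {M : Ideal AlgInt} {B : Set (IrrCharacter G)}

open scoped Classical in
/-- The invariants. -/
theorem invariants (hM : IsPModular 2 M) (hB : IsPBlock M B) {D : Subgroup G} (hD : IsDefectGroup 2 M B D)
    {n : ℕ} (hn : 4 ≤ n) (hcard : Nat.card D = 2 ^ n) (hQ : IsQuasiDihedral D) :
    (Nat.card B = 2 ^ (n - 2) + 3 ∨ Nat.card B = 2 ^ (n - 2) + 4) ∧ 1 ≤ blockRank 2 B ∧ blockRank 2 B ≤ 3 ∧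
      (blockRank 2 B = 3 → Nat.card B = 2 ^ (n - 2) + 4) ∧ (blockRank 2 B = 1 → Nat.card B = 2 ^ (n - 2) + 3) ∧
      Nat.card {χ : IrrCharacter G // χ ∈ B ∧ blockHeight 2 B (χ : G → ℂ) = 0} = 4 ∧
      Nat.card {χ : IrrCharacter G // χ ∈ B ∧ blockHeight 2 B (χ : G → ℂ) = 1} = 2 ^ (n - 2) - 1 ∧
      ∀ χ ∈ B, blockHeight 2 B (χ : G → ℂ) = 0 ∨ blockHeight 2 B (χ : G → ℂ) = 1 ∨
        blockHeight 2 B (χ : G → ℂ) = n - 2 := by
  obtain ⟨e, rfl⟩ : ∃ e, n = e + 3 := ⟨n - 3, by omega⟩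
  obtain ⟨he, ⟨ι⟩⟩ := exists_model hcard hQ (e := e) rfl
  simp only [show e + 3 - 2 = e + 1 by omega]
  obtain ⟨ed, z, y, S, -⟩ := exists_setting hM hB hD hQ
  obtain ⟨f, hind, hdef, hgap⟩ := count S hD hQ
  have hfgap := QuatBlock.centralizer_gap hM hB hD (SD.family he) ι S.hz2 hind hdef
  obtain ⟨u, hu⟩ := QuatBlock.exists_qb hM hB hD (SD.family he) ι
  haveI : Fintype (QuatBlock.axis u) := Fintype.ofFinite _
  obtain ⟨Q⟩ := hu
  have hS := Q.shape
  have hl := KleinBlock.rank_pos hM hB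
  have hcov : Nat.card B = 4 + Q.us.card + Q.os.card + Q.zs.card := (CentralClass.natCard_eq_bset B).trans hS.cover
  have hp : (2 : ℕ) ^ (e + 1) = 2 * 2 ^ e := pow_succ' 2 e
  have hp1 := Nat.one_le_two_pow (n := e)
  have hfgap' : (Nat.card f : ℤ) - blockRank 2 f = ((2 ^ (e + 1) : ℕ) : ℤ) + 2 := by push_cast; linarith
  have hgood : Q.Good := by
    rcases hS.cases with h | ⟨-, hz, hle, -⟩
    · exact h
    · rw [hz, Finset.card_empty] at hcov
      have hp2 : 2 ≤ 2 ^ e := le_self_pow one_le_two (by omega)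
      rcases hgap with h | ⟨h, -⟩ <;> omega
  have hzle := hS.zs_le
  rw [if_neg (by omega)] at hzle
  have hkB : Nat.card B = 2 ^ (e + 1) + 3 + Q.zs.card := by
    rw [hgood.1, hgood.2.1 he] at hcov
    omega
  have hz1 : Q.zs.card ≤ 1 := by
    by_contra hz2
    have hz : Q.zs.card = 2 := by omega
    have h3 := Q.rank_three he hS hgood hz
    rcases hgap with h | ⟨-, t, β, hex⟩
    · omega
    obtain ⟨d, hnorm, hreg, hperp, hev⟩ := exists_column S Q hex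
    exact Q.no_column he hS hgood hz d hnorm hreg hperp fun χ hχ =>
      hev χ (Q.mem_zs.mp hχ).1 (Q.row_zs hχ).1
  have hh : ∀ χ ∈ B, (χ ∈ Q.xs ∧ blockHeight 2 B (χ : G → ℂ) = 0) ∨
      ((χ ∈ Q.us ∨ χ ∈ Q.os) ∧ blockHeight 2 B (χ : G → ℂ) = 1) ∨
      (χ ∈ Q.zs ∧ blockHeight 2 B (χ : G → ℂ) = e + 1) := by
    intro χ hχ
    by_cases hw : Q.wv χ = 0
    · by_cases hz : χ ∈ Q.zs
      · exact Or.inr (Or.inr ⟨hz, (Q.row_zs hz).1⟩)
      · refine Or.inr (Or.inl ⟨?_, hS.h_one χ hχ hw hz⟩)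
        by_cases h1 : ∃ i, Q.uv i χ ≠ 0
        · exact Or.inl (Q.mem_us.mpr ⟨hχ, hw, h1⟩)
        · by_cases h2 : ∃ i, Q.ov i χ ≠ 0
          · exact Or.inr (Q.mem_os.mpr ⟨hχ, hw, h2⟩)
          · push Not at h1 h2
            exact absurd (Q.mem_zs.mpr ⟨hχ, hw, h1, h2⟩) hz
    · have hx := Q.mem_xs.mpr ⟨hχ, hw⟩
      exact Or.inl ⟨hx, Q.height_xs hx⟩
  have hlow : blockRank 2 B ≤ Q.zs.card + 2 ∧ Q.zs.card + 1 ≤ blockRank 2 B := by
    rcases hgap with h | ⟨h, -⟩ <;> omega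
  refine ⟨by omega, hl, by omega, fun h => by omega, fun h => by omega, ?_, ?_, fun χ hχ => ?_⟩
  · rw [Nat.subtype_card Q.xs fun χ => ?_, Q.wv_shape.2]
    exact ⟨fun h => ⟨(Q.mem_xs.mp h).1, Q.height_xs h⟩, fun ⟨h, h0⟩ => by
      rcases hh χ h with ⟨h', -⟩ | ⟨-, h'⟩ | ⟨-, h'⟩
      · exact h'
      all_goals omega⟩
  · rw [Nat.subtype_card (Q.us ∪ Q.os) fun χ => ?_, Finset.card_union_of_disjoint
      (Finset.disjoint_left.mpr hS.disj), hgood.1, hgood.2.1 he]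
    · omega
    rw [Finset.mem_union]
    constructor
    · intro h
      have hm : χ ∈ B ∧ Q.wv χ = 0 ∧ χ ∉ Q.zs := by
        rcases h with h | h
        · obtain ⟨hB', hw, i, hi⟩ := Q.mem_us.mp h
          exact ⟨hB', hw, fun h' => hi ((Q.mem_zs.mp h').2.2.1 i)⟩
        · obtain ⟨hB', hw, i, hi⟩ := Q.mem_os.mp h
          exact ⟨hB', hw, fun h' => hi ((Q.mem_zs.mp h').2.2.2 i)⟩
      exact ⟨hm.1, hS.h_one χ hm.1 hm.2.1 hm.2.2⟩
    · rintro ⟨h, h1⟩
      rcases hh χ h with ⟨-, h'⟩ | ⟨h', -⟩ | ⟨-, h'⟩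
      · omega
      · exact h'
      · omega
  · rcases hh χ hχ with ⟨-, h⟩ | ⟨-, h⟩ | ⟨-, h⟩
    exacts [Or.inl h, Or.inr (Or.inl h), Or.inr (Or.inr h)]

end Cfsg.Agent.Char.SemiBlock
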