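import Cfsg.Agent.Lib.Char.CentralPairs
import Cfsg.Agent.Lib.Char.SubsectionOrbits
import Cfsg.Agent.Lib.Char.StarNilpotent
import Cfsg.Agent.Lib.Char.DihedralBlock.CentralInvolution

/-!
# The pairs at the involutions of a block with semidihedral defect group

Every pair at an involution is conjugate to the one at the central involution or to the one at a fixed other
involution of the defect group. Those not conjugate to the first have a four group as defect group.
-/

set_option autoImplicit false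
set_option linter.unusedSectionVars false
set_option linter.style.haveILetI false

namespace Cfsg.Agent.Char.SemiBlock

open Cfsg Relation

universe u

variable {G : Type u} [Group G] [Fintype G]

/-- The maximal pair and its two kinds of involutions. -/
structure Setting (M : Ideal AlgInt) (B : Set (IrrCharacter G)) (D : Subgroup G)
    (ed : Set (IrrCharacter (Subgroup.centralizer (D : Set G)))) (z y : G) : Prop where
  hM : IsPModular 2 M
  hB : IsPBlock M B
  hmax : IsMaximalBrauerPair 2 M B D ed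
  hz : z ∈ D
  hy : y ∈ D
  hz2 : orderOf z = 2
  hy2 : orderOf y = 2
  hne : y ≠ z
  hzc : ∀ d ∈ D, d * z = z * d
  hinv : ∀ w ∈ D, orderOf w = 2 → w = z ∨ ∃ d ∈ D, d * y * d⁻¹ = w
  hcard : Nat.card (D ⊓ Subgroup.centralizer ({y} : Set G) : Subgroup G) = 4
  hexp : ∀ w ∈ D, w * y = y * w → w * w = 1

/-- The block of the centralizer of `t` below the maximal pair. -/
def Below (M : Ideal AlgInt) (D : Subgroup G) (ed : Set (IrrCharacter (Subgroup.centralizer (D : Set G)))) (t : G)
    (f : Set (IrrCharacter (Subgroup.centralizer ({t} : Set G)))) : Prop :=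
  IsPBlock M f ∧ ∃ f0 : Set (IrrCharacter (Subgroup.centralizer (Subgroup.zpowers t : Set G))),
    IsPBlock M f0 ∧ SubpairLE 2 M (Subgroup.zpowers t) f0 D ed ∧
      subgroupBlockCoeff (Subgroup.centralizer ({t} : Set G)) f =
        subgroupBlockCoeff (Subgroup.centralizer (Subgroup.zpowers t : Set G)) f0

/-- Conjugation by `g` takes the first pair to the second. -/
def Moves (g t : G) (β : Set (IrrCharacter (Subgroup.centralizer ({t} : Set G)))) (t' : G)
    (β' : Set (IrrCharacter (Subgroup.centralizer ({t'} : Set G)))) : Prop :=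
  g * t * g⁻¹ = t' ∧ ∀ w, subgroupBlockCoeff (Subgroup.centralizer ({t'} : Set G)) β' (g * w * g⁻¹) =
    subgroupBlockCoeff (Subgroup.centralizer ({t} : Set G)) β w

theorem coeff_det {M : Ideal AlgInt} (hP : M.IsPrime) {K : Subgroup G} {φ φ' : Set (IrrCharacter K)}
    (h : IsPBlock M φ) (h' : IsPBlock M φ') (heq : subgroupBlockCoeff K φ = subgroupBlockCoeff K φ') : φ = φ' := by
  haveI := Fintype.ofFinite K
  refine blockCoeff_inj hP h h' (funext fun c => ?_)
  have := congrFun heq c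
  rwa [subgroupBlockCoeff_eq, subgroupBlockCoeff_eq, extendByZero_mem _ _ c.2, extendByZero_mem _ _ c.2] at this

theorem Moves.trans {g g' t t' t'' : G} {β : Set (IrrCharacter (Subgroup.centralizer ({t} : Set G)))}
    {β' : Set (IrrCharacter (Subgroup.centralizer ({t'} : Set G)))}
    {β'' : Set (IrrCharacter (Subgroup.centralizer ({t''} : Set G)))} (h : Moves g t β t' β')
    (h' : Moves g' t' β' t'' β'') : Moves (g' * g) t β t'' β'' := by
  refine ⟨by rw [← h'.1, ← h.1]; group, fun w => ?_⟩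
  rw [← h.2 w, ← h'.2 (g * w * g⁻¹)]
  congr 1
  group

theorem Moves.symm {g t t' : G} {β : Set (IrrCharacter (Subgroup.centralizer ({t} : Set G)))}
    {β' : Set (IrrCharacter (Subgroup.centralizer ({t'} : Set G)))} (h : Moves g t β t' β') :
    Moves g⁻¹ t' β' t β := by
  refine ⟨by rw [← h.1]; group, fun w => ?_⟩
  rw [← h.2 (g⁻¹ * w * g⁻¹⁻¹)]
  congr 1
  group

variable {M : Ideal AlgInt} {B : Set (IrrCharacter G)} {D : Subgroup G}
  {ed : Set (IrrCharacter (Subgroup.centralizer (D : Set G)))} {z y : G}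

/-- A pair at an involution that is not conjugate to the one at the central involution. -/
def Exotic (M : Ideal AlgInt) (B : Set (IrrCharacter G)) (D : Subgroup G)
    (ed : Set (IrrCharacter (Subgroup.centralizer (D : Set G)))) (z t : G)
    (β : Set (IrrCharacter (Subgroup.centralizer ({t} : Set G)))) : Prop :=
  orderOf t = 2 ∧ IsInducedBlock M (Subgroup.centralizer ({t} : Set G)) β B ∧
    ¬ ∃ g : G, ∃ f, Below M D ed z f ∧ Moves g t β z f

theorem pairOf_below (hM : IsPModular 2 M) (hB : IsPBlock M B) {a b : BrauerPairIdx G}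
    (h : ReflTransGen (NormalSubpairRel 2 M) a b) (hb : IsBrauerPairOf 2 M B b.1 b.2) :
    IsBrauerPairOf 2 M B a.1 a.2 := by
  induction h using ReflTransGen.head_induction_on with
  | refl => exact hb
  | head h1 _ ih => exact (brauerPairOf_iff hM hB h1).mpr ih

theorem move_eq {t t' g : G} {β : Set (IrrCharacter (Subgroup.centralizer ({t} : Set G)))}
    {f : Set (IrrCharacter (Subgroup.centralizer ({t'} : Set G)))} {w : G} (h : t' = w)
    (hb : Below M D ed t' f) (hm : Moves g t β t' f) : ∃ f', Below M D ed w f' ∧ Moves g t β w f' := by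
  subst h
  exact ⟨f, hb, hm⟩

theorem isPGroup_inv {t : G} (ht : orderOf t = 2) : IsPGroup 2 (Subgroup.zpowers t) := by
  haveI := Fact.mk Nat.prime_two
  exact IsPGroup.of_card (n := 1) (by rw [Nat.card_zpowers, ht, pow_one])

theorem le_centralizer_self (t : G) :
    Subgroup.zpowers t ≤ Subgroup.centralizer (Subgroup.zpowers t : Set G) := by
  rw [Star.centralizer_zp, Subgroup.zpowers_le, Subgroup.mem_centralizer_singleton_iff]

namespace Setting

variable (S : Setting M B D ed z y)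
include S

theorem below_exists {t : G} (htD : t ∈ D) :
    ∃ f, Below M D ed t f ∧ IsInducedBlock M (Subgroup.centralizer ({t} : Set G)) f B := by
  obtain ⟨f0, ⟨hf0, hle⟩, -⟩ := existsUnique_subpair S.hM S.hmax.1.1 (Subgroup.zpowers_le.mpr htD)
  obtain ⟨f, hf, -, hfc, hfi⟩ := CentralPairs.exists_same (B := B) (p := 2) (Star.centralizer_zp t) f0 hf0
  exact ⟨f, ⟨hf, f0, hf0, hle, hfc⟩,
    hfi (CentralPairs.induced_of_pair S.hM (le_centralizer_self t) (pairOf_below S.hM S.hB hle S.hmax.1))⟩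

theorem below_unique {t : G} {f f' : Set (IrrCharacter (Subgroup.centralizer ({t} : Set G)))}
    (h : Below M D ed t f) (h' : Below M D ed t f') : f = f' := by
  obtain ⟨f0, hf0, hle, hc⟩ := h.2
  obtain ⟨f0', hf0', hle', hc'⟩ := h'.2
  have htD : t ∈ D := subpair_le hle (Subgroup.mem_zpowers t)
  have he : f0 = f0' := (existsUnique_subpair S.hM S.hmax.1.1 (Subgroup.zpowers_le.mpr htD)).unique
    ⟨hf0, hle⟩ ⟨hf0', hle'⟩
  exact coeff_det (pmod_prime S.hM) h.1 h'.1 (by rw [hc, hc', he])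

theorem moves_unique {g t t' : G} {β : Set (IrrCharacter (Subgroup.centralizer ({t} : Set G)))}
    {β₁ β₂ : Set (IrrCharacter (Subgroup.centralizer ({t'} : Set G)))} (h1 : IsPBlock M β₁) (h2 : IsPBlock M β₂)
    (m1 : Moves g t β t' β₁) (m2 : Moves g t β t' β₂) : β₁ = β₂ := by
  refine coeff_det (pmod_prime S.hM) h1 h2 (funext fun w => ?_)
  have e : w = g * (g⁻¹ * w * g) * g⁻¹ := by group
  rw [e, m1.2, m2.2]

theorem moves_self {t g : G} (ht : orderOf t = 2) (hg : g * t * g⁻¹ = t)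
    {β : Set (IrrCharacter (Subgroup.centralizer ({t} : Set G)))} (hβ : IsPBlock M β) : Moves g t β t β := by
  have hP := pmod_prime S.hM
  obtain ⟨β0, hβ0, -, hc, -⟩ := CentralPairs.exists_same (B := B) (p := 2) (Star.centralizer_zp t).symm β hβ
  have hgC : g ∈ Subgroup.centralizer (Subgroup.zpowers t : Set G) := by
    rw [Star.centralizer_zp, Subgroup.mem_centralizer_singleton_iff]
    exact mul_inv_eq_iff_eq_mul.mp hg
  have hself := (conjIdx_eq_self_iff hP hβ0 g).mpr
    ⟨centralizer_le_norm _ hgC, stabilizesBlock_of_centralizer S.hM (isPGroup_inv ht) hβ0 hgC⟩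
  refine ⟨hg, fun w => ?_⟩
  have h1 := congrArg (fun a : BrauerPairIdx G =>
    subgroupBlockCoeff (Subgroup.centralizer (a.1 : Set G)) a.2 (g * w * g⁻¹)) hself
  simp only [conjIdx] at h1
  rw [subgroupBlockCoeff_conj] at h1
  rw [← hc]
  exact h1.symm

/-- Elements of the defect group permute the pairs below it. -/
theorem below_conj {t d : G} (hd : d ∈ D) {f : Set (IrrCharacter (Subgroup.centralizer ({t} : Set G)))}
    (h : Below M D ed t f) : ∃ f', Below M D ed (d * t * d⁻¹) f' ∧ Moves d t f (d * t * d⁻¹) f' := by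
  have hP := pmod_prime S.hM
  obtain ⟨f0, hf0, hle, hc⟩ := h.2
  have hfix : conjIdx d (⟨D, ed⟩ : BrauerPairIdx G) = ⟨D, ed⟩ :=
    (conjIdx_eq_self_iff hP S.hmax.1.1.2 d).mpr ⟨Subgroup.le_normalizer hd,
      (isNormalSubpair_self S.hM S.hmax.1.1.1 S.hmax.1.1.2).2.2.2.2.1 d hd⟩
  have hle' : ReflTransGen (NormalSubpairRel 2 M) (conjIdx d (⟨Subgroup.zpowers t, f0⟩ : BrauerPairIdx G))
      (⟨D, ed⟩ : BrauerPairIdx G) := hfix ▸ subpair_rel_conj S.hM d hle
  obtain ⟨Q, f1, hQ⟩ : ∃ Q f1, (⟨Q, f1⟩ : BrauerPairIdx G) = conjIdx d ⟨Subgroup.zpowers t, f0⟩ := ⟨_, _, rfl⟩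
  have hQe : Q = Subgroup.zpowers (d * t * d⁻¹) :=
    (Sigma.mk.inj_iff.mp hQ).1.trans (MonoidHom.map_zpowers _ _)
  subst hQe
  rw [← hQ] at hle'
  have hb1 : IsPBlock M f1 := by
    have hb : IsPBlock M (conjIdx d (⟨Subgroup.zpowers t, f0⟩ : BrauerPairIdx G)).2 := isPBlock_conjBlock d hf0
    rw [← hQ] at hb
    exact hb
  obtain ⟨f', hf', -, hfc, -⟩ := CentralPairs.exists_same (B := B) (p := 2) (Star.centralizer_zp _) f1 hb1
  refine ⟨f', ⟨hf', f1, hb1, hle', hfc⟩, rfl, fun w => ?_⟩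
  rw [hfc, hc]
  have h1 := congrArg (fun a : BrauerPairIdx G =>
    subgroupBlockCoeff (Subgroup.centralizer (a.1 : Set G)) a.2 (d * w * d⁻¹)) hQ
  simp only [conjIdx] at h1
  rw [h1, subgroupBlockCoeff_conj]

/-- Every pair at an involution is conjugate to one below the maximal pair. -/
theorem exists_into {t : G} {β : Set (IrrCharacter (Subgroup.centralizer ({t} : Set G)))} (ht : orderOf t = 2)
    (hβ : IsInducedBlock M (Subgroup.centralizer ({t} : Set G)) β B) :
    (∃ g f, Below M D ed z f ∧ Moves g t β z f) ∨ ∃ g f, Below M D ed y f ∧ Moves g t β y f := by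
  have hP := pmod_prime S.hM
  obtain ⟨β0, hβ0, -, hc, hi⟩ := CentralPairs.exists_same (B := B) (p := 2) (Star.centralizer_zp t).symm β hβ.1
  obtain ⟨g, hg⟩ := pairs_conj_into_maximal S.hM S.hmax (SubsectionOrbits.pair_of_induced S.hM (isPGroup_inv ht) (hi hβ))
  obtain ⟨Q, f1, hQ⟩ : ∃ Q f1, (⟨Q, f1⟩ : BrauerPairIdx G) = conjIdx g ⟨Subgroup.zpowers t, β0⟩ := ⟨_, _, rfl⟩
  have hQe : Q = Subgroup.zpowers (g * t * g⁻¹) :=
    (Sigma.mk.inj_iff.mp hQ).1.trans (MonoidHom.map_zpowers _ _)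
  subst hQe
  have hg' : ReflTransGen (NormalSubpairRel 2 M) (conjIdx g (⟨Subgroup.zpowers t, β0⟩ : BrauerPairIdx G))
      (⟨D, ed⟩ : BrauerPairIdx G) := hg
  rw [← hQ] at hg'
  have hb1 : IsPBlock M f1 := by
    have hb : IsPBlock M (conjIdx g (⟨Subgroup.zpowers t, β0⟩ : BrauerPairIdx G)).2 := isPBlock_conjBlock g hβ0
    rw [← hQ] at hb
    exact hb
  obtain ⟨f', hf', -, hfc, -⟩ := CentralPairs.exists_same (B := B) (p := 2) (Star.centralizer_zp _) f1 hb1
  have hmv : Moves g t β (g * t * g⁻¹) f' := ⟨rfl, fun w => by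
    have h1 := congrArg (fun a : BrauerPairIdx G =>
      subgroupBlockCoeff (Subgroup.centralizer (a.1 : Set G)) a.2 (g * w * g⁻¹)) hQ
    simp only [conjIdx] at h1
    rw [hfc, h1, subgroupBlockCoeff_conj, hc]⟩
  have hbel : Below M D ed (g * t * g⁻¹) f' := ⟨hf', f1, hb1, hg', hfc⟩
  have hmem : g * t * g⁻¹ ∈ D := subpair_le (Q := Subgroup.zpowers (g * t * g⁻¹)) hg' (Subgroup.mem_zpowers _)
  have hord : orderOf (g * t * g⁻¹) = 2 := by
    rw [show g * t * g⁻¹ = MulAut.conj g t from rfl, MulEquiv.orderOf_eq, ht]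
  rcases S.hinv _ hmem hord with h | ⟨d, hd, h⟩
  · left
    exact ⟨g, move_eq h hbel hmv⟩
  · right
    obtain ⟨f'', hb, hm⟩ := S.below_conj (inv_mem hd) hbel
    exact ⟨d⁻¹ * g, move_eq (by rw [← h]; group) hb (hmv.trans hm)⟩

theorem exotic_into {t : G} {β : Set (IrrCharacter (Subgroup.centralizer ({t} : Set G)))}
    (h : Exotic M B D ed z t β) : ∃ g f, Below M D ed y f ∧ Moves g t β y f :=
  (S.exists_into h.1 h.2.1).resolve_left h.2.2

theorem exotic_unique {t : G} {β β' : Set (IrrCharacter (Subgroup.centralizer ({t} : Set G)))}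
    (h : Exotic M B D ed z t β) (h' : Exotic M B D ed z t β') : β = β' := by
  obtain ⟨g, f, hf, hm⟩ := S.exotic_into h
  obtain ⟨g', f', hf', hm'⟩ := S.exotic_into h'
  obtain rfl := S.below_unique hf hf'
  have hm2 := hm.trans hm'.symm
  exact S.moves_unique h.2.1.1 h'.2.1.1 (S.moves_self h.1 hm2.1 h.2.1.1) hm2

theorem plain_unique {β : Set (IrrCharacter (Subgroup.centralizer ({z} : Set G)))}
    (hβ : IsInducedBlock M (Subgroup.centralizer ({z} : Set G)) β B) (h : ¬ Exotic M B D ed z z β)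
    {f : Set (IrrCharacter (Subgroup.centralizer ({z} : Set G)))} (hf : Below M D ed z f) : β = f := by
  obtain ⟨g, f', hf', hm⟩ := not_not.mp fun h' => h ⟨S.hz2, hβ, h'⟩
  obtain rfl := S.below_unique hf hf'
  exact S.moves_unique hβ.1 hf.1 (S.moves_self S.hz2 hm.1 hβ.1) hm

theorem exotic_of_not_conj (hn : ¬ IsConj z y) {f : Set (IrrCharacter (Subgroup.centralizer ({y} : Set G)))}
    (hi : IsInducedBlock M (Subgroup.centralizer ({y} : Set G)) f B) : Exotic M B D ed z y f :=
  ⟨S.hy2, hi, fun ⟨g, _, _, hm⟩ => hn (isConj_iff.mpr ⟨g, hm.1⟩).symm⟩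

theorem conj_of_exotic {t : G} {β : Set (IrrCharacter (Subgroup.centralizer ({t} : Set G)))}
    (h : Exotic M B D ed z t β) : IsConj y t := by
  obtain ⟨g, _f, -, hm⟩ := S.exotic_into h
  exact (isConj_iff.mpr ⟨g, hm.1⟩).symm

theorem four_conj {d : G} (hd : d ∈ D) :
    Nat.card (D ⊓ Subgroup.centralizer ({d * y * d⁻¹} : Set G) : Subgroup G) = 4 := by
  have key : (D ⊓ Subgroup.centralizer ({y} : Set G)).map (MulAut.conj d).toMonoidHom =
      D ⊓ Subgroup.centralizer ({d * y * d⁻¹} : Set G) := by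
    refine Eq.symm ?_
    ext w
    simp only [Subgroup.mem_inf, Subgroup.mem_centralizer_singleton_iff, Subgroup.mem_map, MulEquiv.coe_toMonoidHom,
      MulAut.conj_apply]
    constructor
    · rintro ⟨hw, hc⟩
      refine ⟨d⁻¹ * w * d, ⟨mul_mem (mul_mem (inv_mem hd) hw) hd, ?_⟩, by group⟩
      calc d⁻¹ * w * d * y = d⁻¹ * (w * (d * y * d⁻¹)) * d := by group
        _ = d⁻¹ * (d * y * d⁻¹ * w) * d := by rw [hc]
        _ = _ := by group
    · rintro ⟨v, ⟨hv, hc⟩, rfl⟩
      refine ⟨mul_mem (mul_mem hd hv) (inv_mem hd), ?_⟩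
      calc d * v * d⁻¹ * (d * y * d⁻¹) = d * (v * y) * d⁻¹ := by group
        _ = d * (y * v) * d⁻¹ := by rw [hc]
        _ = _ := by group
  rw [← key, Subgroup.card_map_of_injective (MulEquiv.injective (MulAut.conj d))]
  exact S.hcard

set_option maxHeartbeats 1000000 in
/-- An exotic pair has a four group as defect group and is nilpotent. -/
theorem exotic_defect {t : G} {β : Set (IrrCharacter (Subgroup.centralizer ({t} : Set G)))}
    (h : Exotic M B D ed z t β) [Fintype (Subgroup.centralizer ({t} : Set G))] :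
    ∃ P, IsDefectGroup 2 M β P ∧ Nat.card P = 4 ∧ (∀ w ∈ P, w * w = 1) ∧
      (⟨t, Subgroup.mem_centralizer_singleton_iff.mpr rfl⟩ : Subgroup.centralizer ({t} : Set G)) ∈ P ∧
      IsNilpotentBlock 2 M β ∧ blockRank 2 β = 1 := by
  have hP := pmod_prime S.hM
  obtain ⟨ht, hβ, hex⟩ := id h
  obtain ⟨β0, hβ0, hd0, hc, hi⟩ := CentralPairs.exists_same (B := B) (p := 2) (Star.centralizer_zp t).symm β hβ.1
  haveI : Fintype (Subgroup.centralizer (Subgroup.zpowers t : Set G)) := Fintype.ofFinite _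
  have hpair := SubsectionOrbits.pair_of_induced S.hM (isPGroup_inv ht) (hi hβ)
  have hctx : StabCtx 2 M (Subgroup.zpowers t) β0 (Subgroup.centralizer (Subgroup.zpowers t : Set G)) :=
    ⟨isPGroup_inv ht, hβ0, le_centralizer_self t, le_rfl,
      fun u hu => ⟨centralizer_le_norm _ hu, stabilizesBlock_of_centralizer S.hM (isPGroup_inv ht) hβ0 hu⟩⟩
  obtain ⟨⟨R0, r0⟩, hd⟩ := hctx.exists_maxOver S.hM
  obtain ⟨D0, hD0⟩ := exists_isDefectGroup S.hM hβ0
  have hle4 : Nat.card D0 ≤ 4 := by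
    refine (hctx.card_defect_le_max S.hM hd hD0).trans ?_
    have hdB : IsBrauerPairOf 2 M B R0 r0 := (brauerPairOf_iff S.hM S.hB hd.1.1).mp hpair
    obtain ⟨g, hg⟩ := pairs_conj_into_maximal S.hM S.hmax hdB
    have hchain : SubpairLE 2 M ((Subgroup.zpowers t).map (MulAut.conj g).toMonoidHom)
        (conjBlock (Subgroup.zpowers t) g β0) D ed :=
      (subpair_rel_conj S.hM g (ReflTransGen.single (show NormalSubpairRel 2 M ⟨Subgroup.zpowers t, β0⟩ ⟨R0, r0⟩
        from hd.1.1))).trans hg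
    have hmem : g * t * g⁻¹ ∈ D := subpair_le hchain ⟨t, Subgroup.mem_zpowers t, rfl⟩
    rcases S.hinv _ hmem (by rw [show g * t * g⁻¹ = MulAut.conj g t from rfl, MulEquiv.orderOf_eq, ht]) with
      heq | ⟨d, hd', heq⟩
    · exfalso
      obtain ⟨Q, f1, hQ⟩ : ∃ Q f1, (⟨Q, f1⟩ : BrauerPairIdx G) = conjIdx g ⟨Subgroup.zpowers t, β0⟩ := ⟨_, _, rfl⟩
      have hQe : Q = Subgroup.zpowers z := by
        rw [← heq]; exact (Sigma.mk.inj_iff.mp hQ).1.trans (MonoidHom.map_zpowers _ _)
      subst hQe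
      have hg' : ReflTransGen (NormalSubpairRel 2 M) (conjIdx g (⟨Subgroup.zpowers t, β0⟩ : BrauerPairIdx G))
          (⟨D, ed⟩ : BrauerPairIdx G) := hchain
      rw [← hQ] at hg'
      have hb1 : IsPBlock M f1 := by
        have hb : IsPBlock M (conjIdx g (⟨Subgroup.zpowers t, β0⟩ : BrauerPairIdx G)).2 := isPBlock_conjBlock g hβ0
        rw [← hQ] at hb
        exact hb
      obtain ⟨f', hf', -, hfc, -⟩ := CentralPairs.exists_same (B := B) (p := 2) (Star.centralizer_zp _) f1 hb1
      refine hex ⟨g, f', ⟨hf', f1, hb1, hg', hfc⟩, heq, fun w => ?_⟩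
      have h1 := congrArg (fun a : BrauerPairIdx G =>
        subgroupBlockCoeff (Subgroup.centralizer (a.1 : Set G)) a.2 (g * w * g⁻¹)) hQ
      simp only [conjIdx] at h1
      rw [hfc, h1, subgroupBlockCoeff_conj, hc]
    · refine le_trans ?_ (S.four_conj hd').le
      rw [heq]
      have hcm : Nat.card ((R0 ⊓ Subgroup.centralizer (Subgroup.zpowers t : Set G)).map
          (MulAut.conj g).toMonoidHom : Subgroup G) =
          Nat.card (R0 ⊓ Subgroup.centralizer (Subgroup.zpowers t : Set G) : Subgroup G) :=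
        (Nat.card_congr (Subgroup.equivMapOfInjective _ _ (MulEquiv.injective (MulAut.conj g))).toEquiv).symm
      rw [← hcm]
      refine Subgroup.card_le_of_le ?_
      rintro _ ⟨w, ⟨hw, hwc⟩, rfl⟩
      refine ⟨subpair_le hg ⟨w, hw, rfl⟩, Subgroup.mem_centralizer_singleton_iff.mpr ?_⟩
      have h1 : t * w = w * t := hwc t (Subgroup.mem_zpowers t)
      show g * w * g⁻¹ * (g * t * g⁻¹) = g * t * g⁻¹ * (g * w * g⁻¹)
      calc _ = g * (w * t) * g⁻¹ := by group
        _ = g * (t * w) * g⁻¹ := by rw [h1]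
        _ = _ := by group
  -- the four group above the pair
  obtain ⟨g, f, hf, hm⟩ := S.exotic_into h
  obtain ⟨f0, hf0, hle, hfc⟩ := hf.2
  set R := D ⊓ Subgroup.centralizer ({y} : Set G) with hRd
  obtain ⟨eR, ⟨heR, hRle⟩, -⟩ := existsUnique_subpair S.hM S.hmax.1.1 (inf_le_left : R ≤ D)
  have hRp : IsPGroup 2 R := S.hmax.1.1.1.to_le inf_le_left
  have hyR : Subgroup.zpowers y ≤ R :=
    Subgroup.zpowers_le.mpr ⟨S.hy, Subgroup.mem_centralizer_singleton_iff.mpr rfl⟩
  obtain ⟨f2, hf2, -⟩ := existsUnique_normalSubpair S.hM hRp hyR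
    ((inf_le_right.trans (Star.centralizer_zp y).ge).trans (centralizer_le_norm _)) heR
  have hf20 : f2 = f0 := (existsUnique_subpair S.hM S.hmax.1.1 (Subgroup.zpowers_le.mpr S.hy)).unique
    ⟨hf2.1.2, ReflTransGen.head (show NormalSubpairRel 2 M ⟨Subgroup.zpowers y, f2⟩ ⟨R, eR⟩ from hf2) hRle⟩
    ⟨hf0, hle⟩
  subst hf20
  have hn := normalSubpair_conj S.hM g⁻¹ hf2
  have hidx : conjIdx g⁻¹ (⟨Subgroup.zpowers y, f2⟩ : BrauerPairIdx G) = ⟨Subgroup.zpowers t, β0⟩ := by
    refine idx_ext hP ?_ (isPBlock_conjBlock _ hf0) hβ0 fun v => ?_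
    · rw [MonoidHom.map_zpowers]
      congr 1
      exact hm.symm.1
    · obtain ⟨v', rfl⟩ : ∃ v', v = g⁻¹ * v' * g⁻¹⁻¹ := ⟨g * v * g⁻¹, by group⟩
      rw [hc, show subgroupBlockCoeff _ _ (g⁻¹ * v' * g⁻¹⁻¹) =
        subgroupBlockCoeff _ f2 v' from subgroupBlockCoeff_conj _ g⁻¹ f2 v', ← hfc, ← hm.2 (g⁻¹ * v' * g⁻¹⁻¹)]
      congr 1
      group
  have hn' : IsNormalSubpair 2 M (Subgroup.zpowers t) β0 (conjIdx g⁻¹ (⟨R, eR⟩ : BrauerPairIdx G)).1
      (conjIdx g⁻¹ (⟨R, eR⟩ : BrauerPairIdx G)).2 :=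
    Eq.mp (congrArg (fun a : BrauerPairIdx G => IsNormalSubpair 2 M a.1 a.2
      (conjIdx g⁻¹ (⟨R, eR⟩ : BrauerPairIdx G)).1 (conjIdx g⁻¹ (⟨R, eR⟩ : BrauerPairIdx G)).2) hidx) hn
  obtain ⟨w0, hw0⟩ := inf_le_defect S.hM (a := conjIdx g⁻¹ (⟨R, eR⟩ : BrauerPairIdx G)) hn' hD0
  have hRC : (conjIdx g⁻¹ (⟨R, eR⟩ : BrauerPairIdx G)).1 ≤ Subgroup.centralizer (Subgroup.zpowers t : Set G) := by
    rintro _ ⟨v, hv, rfl⟩
    rw [Star.centralizer_zp, Subgroup.mem_centralizer_singleton_iff]
    have h1 : v * y = y * v := Subgroup.mem_centralizer_singleton_iff.mp hv.2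
    show g⁻¹ * v * g⁻¹⁻¹ * t = t * (g⁻¹ * v * g⁻¹⁻¹)
    rw [← hm.symm.1]
    calc _ = g⁻¹ * (v * y) * g⁻¹⁻¹ := by group
      _ = g⁻¹ * (y * v) * g⁻¹⁻¹ := by rw [h1]
      _ = _ := by group
  set E0 := ((conjIdx g⁻¹ (⟨R, eR⟩ : BrauerPairIdx G)).1 ⊓ Subgroup.centralizer (Subgroup.zpowers t : Set G)).subgroupOf
    (Subgroup.centralizer (Subgroup.zpowers t : Set G)) with hE0
  have hcR : Nat.card E0 = 4 := by
    rw [hE0, card_subgroupOf_inf, inf_eq_left.mpr hRC]
    exact (Subgroup.card_map_of_injective (MulEquiv.injective _)).trans S.hcard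
  have heq : E0 = D0.map (MulAut.conj w0).toMonoidHom := by
    refine Subgroup.eq_of_le_of_card_ge hw0 ?_
    rw [Subgroup.card_map_of_injective (MulEquiv.injective _), hcR]
    exact hle4
  have hexp0 : ∀ v ∈ D0, v * v = 1 := by
    intro v hv
    have h1 : (MulAut.conj w0).toMonoidHom v ∈ E0 := heq ▸ Subgroup.mem_map_of_mem _ hv
    obtain ⟨r, hr, hr'⟩ := ((Subgroup.mem_subgroupOf.mp h1).1 : _ ∈ (R.map (MulAut.conj g⁻¹).toMonoidHom))
    have h2 : r * r = 1 := S.hexp r hr.1 (Subgroup.mem_centralizer_singleton_iff.mp hr.2)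
    refine (MulEquiv.injective (MulAut.conj w0)) (Subtype.ext ?_)
    rw [map_mul, map_one, Subgroup.coe_mul]
    show (((MulAut.conj w0).toMonoidHom v : _) : G) * (((MulAut.conj w0).toMonoidHom v : _) : G) = 1
    rw [← hr', ← map_mul, h2, map_one]
  -- the block on the centralizer of the element
  obtain ⟨P, hPd⟩ := exists_isDefectGroup S.hM hβ.1
  have hP4 : Nat.card P = 4 := by
    rw [card_defectGroup S.hM hβ.1 hPd, ← hd0, ← card_defectGroup S.hM hβ0 hD0]
    refine le_antisymm hle4 ?_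
    rw [← hcR, heq, Subgroup.card_map_of_injective (MulEquiv.injective _)]
  have hexpP : ∀ v ∈ P, v * v = 1 := by
    let ε : Subgroup.centralizer (Subgroup.zpowers t : Set G) ≃* Subgroup.centralizer ({t} : Set G) :=
      MulEquiv.subgroupCongr (Star.centralizer_zp t)
    have hD0' : IsDefectGroup 2 M β (D0.map ε.toMonoidHom) := by
      have : ∀ (K K' : Subgroup G) (hKK : K = K') [Fintype K] [Fintype K'] (b : Set (IrrCharacter K))
          (b' : Set (IrrCharacter K')) (D0 : Subgroup K), IsPBlock M b → IsPBlock M b' →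
          subgroupBlockCoeff K b = subgroupBlockCoeff K' b' → IsDefectGroup 2 M b D0 →
          IsDefectGroup 2 M b' (D0.map (MulEquiv.subgroupCongr hKK).toMonoidHom) := by
        intro K K' hKK _ _ b b' D0 hb hb' hcc hd
        subst hKK
        rw [show b' = b from coeff_det hP hb' hb hcc.symm]
        convert hd using 1
        ext v
        constructor
        · rintro ⟨v', hv', rfl⟩; exact hv'
        · exact fun hv' => ⟨v, hv', rfl⟩
      exact this _ _ (Star.centralizer_zp t) β0 β D0 hβ0 hβ.1 hc hD0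
    obtain ⟨w, hw⟩ := defect_groups_conj S.hM hβ.1 hD0' hPd
    intro v hv
    rw [hw] at hv
    obtain ⟨v1, ⟨v0, hv0, rfl⟩, rfl⟩ := hv
    rw [← map_mul, ← map_mul, hexp0 v0 hv0, map_one, map_one]
  set tH : Subgroup.centralizer ({t} : Set G) := ⟨t, Subgroup.mem_centralizer_singleton_iff.mpr rfl⟩
  have htc : ∀ w, tH * w = w * tH := fun w => Subtype.ext (cent_mul_comm w)
  have htP : tH ∈ P := DihBlock.mem_defect_of_central S.hM hβ.1 hPd (by rw [Subgroup.orderOf_mk, ht]) htc
  have hnil : IsNilpotentBlock 2 M β := by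
    obtain ⟨e', he'⟩ := exists_pair_of_le_defect S.hM hβ.1 hPd le_rfl
    have hmaxβ := maximal_of_defect S.hM hPd he'
    refine ⟨hβ.1, fun Q f' hQ x hx _ hreg => ?_⟩
    obtain ⟨a, ha⟩ := pairs_conj_into_maximal S.hM hmaxβ hQ
    have hle' : Q.map (MulAut.conj a).toMonoidHom ≤ P := subpair_rel_le ha
    rw [Subgroup.mem_centralizer_iff]
    intro q hq
    set w := a * x * a⁻¹
    have hodd : Odd (orderOf w) := by
      rw [show w = MulAut.conj a x from rfl, MulEquiv.orderOf_eq, Nat.odd_iff]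
      have : ¬ 2 ∣ orderOf x := hreg
      omega
    have hwQ : ∀ v ∈ Q.map (MulAut.conj a).toMonoidHom, w * v * w⁻¹ ∈ Q.map (MulAut.conj a).toMonoidHom := by
      rintro _ ⟨v, hv, rfl⟩
      exact ⟨x * v * x⁻¹, (Subgroup.mem_normalizer_iff.mp hx v).mp hv, by simp [w, mul_assoc]⟩
    set q' := a * q * a⁻¹
    have hq'Q : q' ∈ Q.map (MulAut.conj a).toMonoidHom := ⟨q, hq, rfl⟩
    have hfix : w * q' * w⁻¹ = q' := by
      by_cases hq1 : q' = 1 ∨ q' = tH
      · rcases hq1 with h1 | h1 <;> rw [h1]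
        · group
        · rw [← htc, mul_inv_cancel_right]
      push Not at hq1
      have key : ∀ v, v ∈ Q.map (MulAut.conj a).toMonoidHom → v ≠ 1 → v ≠ tH → v = q' ∨ v = tH * q' := by
        intro v hv hv1 hvt
        classical
        by_contra hne
        push Not at hne
        have hsub : ({1, tH, q', tH * q', v} : Finset _) ⊆ Finset.univ.filter fun u => u ∈ P := by
          intro u hu
          refine Finset.mem_filter.mpr ⟨Finset.mem_univ _, ?_⟩
          simp only [Finset.mem_insert, Finset.mem_singleton] at hu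
          rcases hu with rfl | rfl | rfl | rfl | rfl
          exacts [one_mem _, htP, hle' hq'Q, mul_mem htP (hle' hq'Q), hle' hv]
        have hc := Finset.card_le_card hsub
        rw [← Fintype.card_subtype, ← Nat.card_eq_fintype_card, hP4] at hc
        have ht1 : tH ≠ 1 := fun h1 => by
          have : t = 1 := congrArg Subtype.val h1
          rw [this, orderOf_one] at ht; omega
        have e1 : tH * q' ≠ q' := fun h1 => ht1 (mul_eq_right.mp h1)
        have e2 : tH * q' ≠ tH := fun h1 => hq1.1 (mul_eq_left.mp h1)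
        have e3 : tH * q' ≠ 1 := fun h1 => hq1.2 (by
          rw [← inv_eq_of_mul_eq_one_right h1]
          exact inv_eq_of_mul_eq_one_right (hexpP _ htP))
        rw [Finset.card_insert_of_notMem (by simp [ht1.symm, hq1.1.symm, e3.symm, hv1.symm]),
          Finset.card_insert_of_notMem (by simp [hq1.2.symm, e2.symm, hvt.symm]),
          Finset.card_insert_of_notMem (by simp [e1.symm, hne.1.symm]),
          Finset.card_insert_of_notMem (by simp [hne.2.symm]), Finset.card_singleton] at hc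
        omega
      have himg := key _ (hwQ q' hq'Q) (fun h1 => hq1.1 (conj_eq_one_iff.mp h1)) fun h1 => hq1.2 (by
        calc q' = w⁻¹ * (w * q' * w⁻¹) * w := by group
          _ = tH := by rw [h1, mul_assoc, htc, ← mul_assoc, inv_mul_cancel, one_mul])
      rcases himg with h1 | h1
      · exact h1
      exfalso
      have h2 : ∀ k : ℕ, w ^ (2 * k) * q' * (w ^ (2 * k))⁻¹ = q' := by
        intro k
        induction k with
        | zero => simp
        | succ k ih =>
          have e3 : w * (tH * q') * w⁻¹ = q' := by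
            rw [show w * (tH * q') * w⁻¹ = tH * (w * q' * w⁻¹) by rw [← mul_assoc w, ← htc]; group, h1,
              ← mul_assoc, hexpP _ htP, one_mul]
          calc w ^ (2 * (k + 1)) * q' * (w ^ (2 * (k + 1)))⁻¹
              = w * (w * (w ^ (2 * k) * q' * (w ^ (2 * k))⁻¹) * w⁻¹) * w⁻¹ := by
                rw [show 2 * (k + 1) = 2 * k + 1 + 1 by ring, pow_succ', pow_succ']; group
            _ = q' := by rw [ih, h1, e3]
      obtain ⟨k, hk⟩ := hodd
      have h3 := pow_orderOf_eq_one w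
      rw [hk, pow_succ'] at h3
      have h4 : w ^ (2 * k) = w⁻¹ := eq_inv_of_mul_eq_one_right h3
      have h5 := h2 k
      rw [h4, inv_inv] at h5
      have h6 : w * q' * w⁻¹ = q' := by
        conv_lhs => rw [← h5]
        group
      rw [h1] at h6
      have : tH = 1 := mul_eq_right.mp h6
      have ht1 : t = 1 := congrArg Subtype.val this
      rw [ht1, orderOf_one] at ht; omega
    calc q * x = a⁻¹ * (q' * w) * a := by simp [q', w, mul_assoc]
      _ = a⁻¹ * (w * q') * a := by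
        rw [show q' * w = w * q' from ((mul_inv_eq_iff_eq_mul.mp hfix)).symm]
      _ = x * q := by simp [q', w, mul_assoc]
  exact ⟨P, hPd, hP4, hexpP, htP, hnil, (Star.nilpotent_rank_one S.hM hnil).1⟩

end Setting

end Cfsg.Agent.Char.SemiBlock
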